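import Mathlib
import Cfsg.Agent.Lib.Grp.MixedPrimes.Local
import Cfsg.Agent.Lib.Grp.CoprimeAbelian

/-!
# Coprime action on cyclic `p`-groups
-/

namespace Cfsg.Agent.Grp.CyclicAbelian

open Subgroup

variable {G : Type*} [Group G] [Finite G] {p : ℕ}

/-- In a cyclic group two elements of prime order generate the same subgroup. -/
theorem mem_zpowers_of_cyclic [hp : Fact p.Prime] {P : Subgroup G} (hcyc : IsCyclic P)
    {a b : G} (ha : a ∈ P) (hb : b ∈ P) (hoa : orderOf a = p) (hob : b ^ p = 1) :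
    b ∈ zpowers a := by
  classical
  have := Fintype.ofFinite P
  set a' : P := ⟨a, ha⟩ with ha'
  have hsub : (zpowers a' : Set P) ⊆ {x : P | x ^ p = 1} := by
    rintro x ⟨n, rfl⟩
    show (a' ^ n) ^ p = 1
    rw [← zpow_natCast, ← zpow_mul, mul_comm, zpow_mul, zpow_natCast,
      show a' ^ p = 1 from Subtype.ext (by rw [← hoa]; exact pow_orderOf_eq_one a), one_zpow]
  have hle : {x : P | x ^ p = 1}.ncard ≤ p := by
    rw [Set.ncard_eq_toFinset_card', Set.toFinset_setOf]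
    exact IsCyclic.card_pow_eq_one_le hp.out.pos
  have hc : (zpowers a' : Set P).ncard = p := by
    rw [← Nat.card_coe_set_eq]
    change Nat.card (zpowers a') = p
    rw [Nat.card_zpowers, ha', Subgroup.orderOf_mk, hoa]
  have heq := Set.eq_of_subset_of_ncard_le hsub (by omega) (Set.toFinite _)
  have hbm : (⟨b, hb⟩ : P) ∈ (zpowers a' : Set P) := by
    rw [heq]; exact Subtype.ext hob
  obtain ⟨n, hn⟩ := hbm
  exact ⟨n, congrArg Subtype.val hn⟩

/-- Two nontrivial subgroups of a cyclic `p`-group meet nontrivially. -/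
theorem exists_common [hp : Fact p.Prime] {P U V : Subgroup G} (hcyc : IsCyclic P)
    (hP : IsPGroup p P) (hUP : U ≤ P) (hVP : V ≤ P) (hU : U ≠ ⊥) (hV : V ≠ ⊥) :
    ∃ a, a ∈ U ∧ a ∈ V ∧ orderOf a = p := by
  have key : ∀ W : Subgroup G, W ≤ P → W ≠ ⊥ → ∃ a ∈ W, orderOf a = p := by
    intro W hW hW1
    have hd : p ∣ Nat.card W := by
      obtain ⟨n, hn⟩ := IsPGroup.iff_card.mp (hP.to_le hW)
      rw [hn]
      exact dvd_pow_self p fun h0 => hW1 (Subgroup.card_eq_one.mp (by rw [hn, h0, pow_zero]))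
    obtain ⟨⟨a, ha⟩, hao⟩ := exists_prime_orderOf_dvd_card' p hd
    exact ⟨a, ha, by rwa [Subgroup.orderOf_mk] at hao⟩
  obtain ⟨a, ha, hao⟩ := key U hUP hU
  obtain ⟨b, hb, hbo⟩ := key V hVP hV
  exact ⟨a, ha, zpowers_le.mpr hb (mem_zpowers_of_cyclic hcyc (hVP hb) (hUP ha) hbo
    (by rw [← hao]; exact pow_orderOf_eq_one a)), hao⟩

/-- A `p'`-element acting on a cyclic `p`-group with a nontrivial fixed point acts trivially. -/
theorem centralizes_of_fixed [hp : Fact p.Prime] {P : Subgroup G} (hcyc : IsCyclic P)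
    (hP : IsPGroup p P) {d y : G} (hd : ¬ p ∣ orderOf d) (hdP : d ∈ normalizer (P : Set G))
    (hy : y ∈ P) (hy1 : y ≠ 1) (hdy : d * y = y * d) {z : G} (hz : z ∈ P) : d * z = z * d := by
  have hcm : IsMulCommutative P := by
    let := IsCyclic.commGroup (α := P)
    exact ⟨⟨fun a b => mul_comm a b⟩⟩
  have hn : zpowers d ≤ normalizer (P : Set G) := zpowers_le.mpr hdP
  have hcop : (Nat.card (zpowers d)).Coprime (Nat.card P) := by
    obtain ⟨n, hn'⟩ := IsPGroup.iff_card.mp hP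
    rw [hn', Nat.card_zpowers]
    exact Nat.Coprime.pow_right n (hp.out.coprime_iff_not_dvd.mpr hd).symm
  have hint := Grp.abelian_commutator_inf_fixed (zpowers d) P hn hcop
  have hyC : y ∈ P ⊓ centralizer (zpowers d : Set G) :=
    ⟨hy, Subgroup.mem_centralizer_iff.mpr fun w hw => by
      obtain ⟨n, rfl⟩ := Subgroup.mem_zpowers_iff.mp hw
      exact (Commute.zpow_left hdy n).eq⟩
  have hbot : ⁅P, zpowers d⁆ = ⊥ := by
    by_contra hne
    obtain ⟨a, ha, ha', hao⟩ := exists_common hcyc hP (inf_le_left)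
      (Grp.commutator_le_left_of_le_normalizer hn)
      (fun e => hy1 (Subgroup.mem_bot.mp (e ▸ hyC))) hne
    have h1 : a ∈ (P ⊓ centralizer (zpowers d : Set G)) ⊓ ⁅P, zpowers d⁆ := ⟨ha, ha'⟩
    rw [hint, Subgroup.mem_bot] at h1
    rw [h1, orderOf_one] at hao
    exact hp.out.one_lt.ne hao
  have := Subgroup.commutator_mem_commutator hz (mem_zpowers d)
  rw [hbot, Subgroup.mem_bot, commutatorElement_def, mul_inv_eq_one, mul_inv_eq_iff_eq_mul] at this
  exact this.symm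

/-- Elements of order prime to `p` in a group with a normal `p`-complement form a subgroup. -/
theorem exists_complement_subgroup [hp : Fact p.Prime] {H : Subgroup G}
    (h : Cfsg.HasNormalPComplement p H) :
    ∃ K : Subgroup G, K ≤ H ∧ H ≤ normalizer (K : Set G) ∧ ¬ p ∣ Nat.card K ∧
      ∀ x ∈ H, ¬ p ∣ orderOf x → x ∈ K := by
  obtain ⟨P, N, hN, hNc⟩ := h
  refine ⟨N.map H.subtype, map_subtype_le N, ?_, ?_, ?_⟩
  · intro x hx
    rw [Subgroup.mem_set_normalizer_iff]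
    intro t
    constructor
    · rintro ⟨t', ht', rfl⟩
      exact ⟨⟨x, hx⟩ * t' * ⟨x, hx⟩⁻¹, hN.conj_mem _ ht' _, by simp⟩
    · rintro ⟨t', ht', e⟩
      refine ⟨⟨x, hx⟩⁻¹ * t' * ⟨x, hx⟩, ?_, ?_⟩
      · have := hN.conj_mem _ ht' (⟨x, hx⟩ : H)⁻¹
        rwa [inv_inv] at this
      · simp only [Subgroup.coe_subtype, Subgroup.coe_mul, InvMemClass.coe_inv] at e ⊢
        rw [e]; group
  · rw [Subgroup.card_map_of_injective (Subgroup.subtype_injective _), ← hNc.index_eq_card]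
    exact P.not_dvd_index
  · intro x hx hxp
    obtain ⟨n, hn⟩ := IsPGroup.iff_card.mp P.isPGroup'
    have hidx : N.index = p ^ n := by rw [hNc.symm.index_eq_card]; exact hn
    have hpm : (⟨x, hx⟩ : H) ^ N.index ∈ N := N.pow_index_mem _
    rw [hidx] at hpm
    exact ⟨⟨x, hx⟩, Transfer.mem_of_pow_mem hpm (by
      rw [Subgroup.orderOf_mk]
      exact Nat.Coprime.pow_right _ (hp.out.coprime_iff_not_dvd.mpr hxp).symm), rfl⟩

/-- A commutator of `A` and a normalised `K` lying in a second group of coprime order. -/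
theorem commute_of_coprime_normalize {A B : Subgroup G}
    (hcop : (Nat.card A).Coprime (Nat.card B)) {a b : G} (ha : a ∈ A) (hb : b ∈ B)
    (hab : a ∈ normalizer (B : Set G)) (hba : b ∈ normalizer (A : Set G)) : a * b = b * a := by
  have h1 : a * b * a⁻¹ * b⁻¹ ∈ B :=
    mul_mem ((Subgroup.mem_set_normalizer_iff.mp hab b).mp hb) (inv_mem hb)
  have h2 : a * b * a⁻¹ * b⁻¹ ∈ A := by
    rw [show a * b * a⁻¹ * b⁻¹ = a * (b * a⁻¹ * b⁻¹) by group]
    exact mul_mem ha ((Subgroup.mem_set_normalizer_iff.mp hba _).mp (inv_mem ha))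
  have h3 : a * b * a⁻¹ * b⁻¹ ∈ A ⊓ B := ⟨h2, h1⟩
  rw [Grp.inf_eq_bot_of_coprime hcop, Subgroup.mem_bot] at h3
  exact mul_inv_eq_iff_eq_mul.mp (mul_inv_eq_one.mp h3)

end Cfsg.Agent.Grp.CyclicAbelian
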