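import Mathlib
import Cfsg.Agent.Lib.Grp.CyclicAbelian.Basic
import Cfsg.Agent.Lib.Transfer.NormalComplement
import Cfsg.Agent.Lib.Grp.Cores

/-!
# Reduction for groups with cyclic Sylow `p`-subgroup and abelian `p'`-subgroups

A counterexample of least order to "normal `p`-complement or normal Sylow `p`-subgroup" is simple.
-/

namespace Cfsg.Agent.Grp.CyclicAbelian

open Subgroup
open Cfsg.Agent.Grp.MixedPrimes (mem_cs mem_of_normalizes exists_orderOf_eq isPGroup_zpowers)

universe u

/-- A least counterexample. -/
structure Ctx (G : Type u) [Group G] (p : ℕ) : Prop where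
  hp : p.Prime
  cyc : ∀ R : Sylow p G, IsCyclic (R : Subgroup G)
  abel : ∀ H : Subgroup G, ¬ p ∣ Nat.card H → ∀ a ∈ H, ∀ b ∈ H, a * b = b * a
  simple : ∀ N : Subgroup G, N.Normal → N = ⊥ ∨ N = ⊤
  notAbelian : center G = ⊥
  dvd : p ∣ Nat.card G
  moves : ∀ R : Sylow p G, ∃ e ∈ normalizer ((R : Subgroup G) : Set G), ¬ p ∣ orderOf e ∧
    ∃ z ∈ (R : Subgroup G), e * z ≠ z * e
  dich : ∀ H : Subgroup G, H ≠ ⊤ → Cfsg.HasNormalPComplement p H ∨
    ∃ R : Subgroup G, IsPGroup p R ∧ H ≤ normalizer (R : Set G) ∧
      ∀ x ∈ H, (∃ k, orderOf x = p ^ k) → x ∈ R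

variable {G : Type u} [Group G] [Finite G] {p : ℕ}

theorem comm_of_cyclic {P : Subgroup G} (h : IsCyclic P) {a b : G} (ha : a ∈ P) (hb : b ∈ P) :
    a * b = b * a := by
  let := IsCyclic.commGroup (α := P)
  exact congrArg Subtype.val (mul_comm (⟨a, ha⟩ : P) ⟨b, hb⟩)

theorem eq_one_of_mem {P : Subgroup G} (hP : IsPGroup p P) [Fact p.Prime] {w : G} (hw : w ∈ P)
    (hwp : ¬ p ∣ orderOf w) : w = 1 := by
  obtain ⟨k, hk⟩ := exists_orderOf_eq hP hw
  rw [hk] at hwp
  rcases Nat.eq_zero_or_pos k with h | h
  · rw [h, pow_zero, orderOf_eq_one_iff] at hk; exact hk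
  · exact absurd (dvd_pow_self p h.ne') hwp

/-- Without a normal `p`-complement some `p'`-element acts nontrivially on a Sylow subgroup. -/
theorem exists_moving [hp : Fact p.Prime] (hno : ¬ Cfsg.HasNormalPComplement p G) (R : Sylow p G)
    (hcyc : IsCyclic (R : Subgroup G)) :
    ∃ e ∈ normalizer ((R : Subgroup G) : Set G), ¬ p ∣ orderOf e ∧
      ∃ z ∈ (R : Subgroup G), e * z ≠ z * e := by
  by_contra hc
  push Not at hc
  have hR : normalizer ((R : Subgroup G) : Set G) ≤ centralizer ((R : Subgroup G) : Set G) := by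
    intro g hg
    refine Transfer.prime_parts g _ fun l hl y hy hyg => ?_
    obtain ⟨k, hk⟩ := hy
    have hyN := zpowers_le.mpr hg hyg
    rw [Subgroup.mem_centralizer_iff]
    intro z hz
    by_cases hlp : l = p
    · subst hlp
      exact comm_of_cyclic hcyc hz (mem_of_normalizes R hk hyN)
    · exact (hc y hyN (fun hd => hlp (by
        rw [hk] at hd
        exact ((Nat.prime_dvd_prime_iff_eq hp.out hl).mp (hp.out.dvd_of_dvd_pow hd)).symm)) z hz).symm
  exact hno ⟨R, _, MonoidHom.normal_ker _, MonoidHom.ker_transferSylow_isComplement' R hR⟩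

/-- A Sylow subgroup normalised by a moving element is all in the centraliser of every normal
`p'`-group that the element centralises. -/
theorem sylow_le_centralizer [hp : Fact p.Prime] {R : Sylow p G} (hcyc : IsCyclic (R : Subgroup G))
    {e : G} (he : e ∈ normalizer ((R : Subgroup G) : Set G)) (hep : ¬ p ∣ orderOf e)
    {z : G} (hz : z ∈ (R : Subgroup G)) (hez : e * z ≠ z * e) {C : Subgroup G} [C.Normal]
    (heC : e ∈ C) : (R : Subgroup G) ≤ C := by
  intro w hw
  obtain ⟨k, hk⟩ := exists_orderOf_eq R.isPGroup' hw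
  -- `[R, e]` lies in `C` and is nontrivial, so equals `R`
  have hle : ⁅(R : Subgroup G), zpowers e⁆ ≤ C :=
    (Subgroup.commutator_mono le_rfl (zpowers_le.mpr heC)).trans (Subgroup.commutator_le_right _ C)
  have hn : zpowers e ≤ normalizer ((R : Subgroup G) : Set G) := zpowers_le.mpr he
  have hcop : (Nat.card (zpowers e)).Coprime (Nat.card (R : Subgroup G)) := by
    obtain ⟨n, hn'⟩ := IsPGroup.iff_card.mp R.isPGroup'
    rw [hn', Nat.card_zpowers]
    exact Nat.Coprime.pow_right n (hp.out.coprime_iff_not_dvd.mpr hep).symm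
  have hsolv : Group.IsSolvable (zpowers e) :=
    Group.isSolvable_of_comm fun a b => Subtype.ext (by
      obtain ⟨i, hi⟩ := Subgroup.mem_zpowers_iff.mp a.2
      obtain ⟨j, hj⟩ := Subgroup.mem_zpowers_iff.mp b.2
      simp only [Subgroup.coe_mul, ← hi, ← hj, ← zpow_add, add_comm])
  obtain ⟨c, hc, m, hm, rfl⟩ : ∃ c ∈ ⁅(R : Subgroup G), zpowers e⁆,
      ∃ m ∈ (R : Subgroup G) ⊓ centralizer (zpowers e : Set G), w = c * m :=
    Grp.exists_commutator_mul_fixed (zpowers e) (R : Subgroup G) hn hcop (Or.inl hsolv) hw
  suffices m = 1 by rw [this, mul_one]; exact hle hc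
  by_contra hm1
  exact hez (centralizes_of_fixed hcyc R.isPGroup' hep he hm.1 hm1
    (Subgroup.mem_centralizer_iff.mp hm.2 e (mem_zpowers e)) hz)

/-- A least counterexample is simple. -/
theorem ctx_of_counterexample (hp : p.Prime) (hcyc : ∀ R : Sylow p G, IsCyclic (R : Subgroup G))
    (hab : ∀ H : Subgroup G, ¬ p ∣ Nat.card H → ∀ a ∈ H, ∀ b ∈ H, a * b = b * a)
    (hno : ¬ Cfsg.HasNormalPComplement p G) (hnn : ∀ R : Sylow p G, ¬ (R : Subgroup G).Normal)
    (ihsub : ∀ H : Subgroup G, H ≠ ⊤ → Cfsg.HasNormalPComplement p H ∨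
      ∃ R : Sylow p H, (R : Subgroup H).Normal)
    (ihquot : ∀ K : Subgroup G, K ≠ ⊥ → [K.Normal] → ¬ p ∣ Nat.card K →
      Cfsg.HasNormalPComplement p (G ⧸ K) ∨ ∃ R : Sylow p (G ⧸ K), (R : Subgroup (G ⧸ K)).Normal) :
    Ctx G p := by
  have := Fact.mk hp
  have hdvd : p ∣ Nat.card G := by
    by_contra h
    exact hno (Transfer.hasNormalPComplement_of_not_dvd_card h)
  obtain ⟨P⟩ : Nonempty (Sylow p G) := inferInstance
  obtain ⟨e, he, hep, z, hz, hez⟩ := exists_moving hno P (hcyc P)
  have hdich : ∀ H : Subgroup G, H ≠ ⊤ → Cfsg.HasNormalPComplement p H ∨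
      ∃ R : Subgroup G, IsPGroup p R ∧ H ≤ normalizer (R : Set G) ∧
        ∀ x ∈ H, (∃ k, orderOf x = p ^ k) → x ∈ R := by
    intro H hH
    rcases ihsub H hH with h | ⟨R, hR⟩
    · exact Or.inl h
    · refine Or.inr ⟨(R : Subgroup H).map H.subtype, R.isPGroup'.map _, ?_, ?_⟩
      · intro x hx
        rw [Subgroup.mem_set_normalizer_iff]
        intro t
        constructor
        · rintro ⟨t', ht', rfl⟩
          exact ⟨⟨x, hx⟩ * t' * ⟨x, hx⟩⁻¹, hR.conj_mem _ ht' _, by simp⟩
        · rintro ⟨t', ht', e'⟩
          refine ⟨⟨x, hx⟩⁻¹ * t' * ⟨x, hx⟩, ?_, ?_⟩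
          · have := hR.conj_mem _ ht' (⟨x, hx⟩ : H)⁻¹
            rwa [inv_inv] at this
          · simp only [Subgroup.coe_subtype, Subgroup.coe_mul, InvMemClass.coe_inv] at e' ⊢
            rw [e']; group
      · rintro x hx ⟨k, hk⟩
        exact ⟨⟨x, hx⟩, mem_of_normalizes R (k := k) (by rw [Subgroup.orderOf_mk, hk])
          (by rw [Subgroup.normalizer_eq_top_iff.mpr hR]; exact Subgroup.mem_top _), rfl⟩
  -- no nontrivial normal `p`-subgroup
  have hOp : ∀ N : Subgroup G, N.Normal → IsPGroup p N → N = ⊥ := by
    intro N hN hNp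
    by_contra hN1
    obtain ⟨n, hnN, hn1⟩ := (Subgroup.ne_bot_iff_exists_ne_one.mp hN1).elim fun a ha =>
      (⟨a.1, a.2, fun h => ha (Subtype.ext h)⟩ : ∃ n ∈ N, n ≠ 1)
    set C := centralizer (N : Set G) with hC
    have hNR : ∀ R : Sylow p G, N ≤ (R : Subgroup G) := fun R =>
      (Grp.le_pCore hN hNp).trans (Grp.pCore_le_sylow R)
    have hRC : ∀ R : Sylow p G, (R : Subgroup G) ≤ C := fun R x hx =>
      Subgroup.mem_centralizer_iff.mpr fun y hy => comm_of_cyclic (hcyc R) (hNR R hy) hx
    have hcent : ∀ h ∈ C, h ∈ normalizer ((P : Subgroup G) : Set G) →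
        ∀ s ∈ (P : Subgroup G), h * s = s * h := by
      intro g hg hgP s hs
      have : g ∈ centralizer ((P : Subgroup G) : Set G) := by
        refine Transfer.prime_parts g _ fun l hl y hy hyg => ?_
        obtain ⟨k, hk⟩ := hy
        have hyN := zpowers_le.mpr hgP hyg
        have hyC := zpowers_le.mpr hg hyg
        rw [Subgroup.mem_centralizer_iff]
        intro w hw
        by_cases hlp : l = p
        · subst hlp
          exact comm_of_cyclic (hcyc P) hw (mem_of_normalizes P hk hyN)
        · refine (centralizes_of_fixed (hcyc P) P.isPGroup' (fun hd => hlp (by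
            rw [hk] at hd
            exact ((Nat.prime_dvd_prime_iff_eq hp hl).mp (hp.dvd_of_dvd_pow hd)).symm)) hyN
            (hNR P hnN) hn1 ?_ hw).symm
          exact (Subgroup.mem_centralizer_iff.mp hyC n hnN).symm
      exact (Subgroup.mem_centralizer_iff.mp this s hs).symm
    obtain ⟨K, hKC, hCK, hKp, hKall⟩ := MixedPrimes.exists_complement_in (l := p)
      (H := C) (S := (P : Subgroup G))
      ⟨hRC P, P.isPGroup', fun hd => P.not_dvd_index (hd.trans (relIndex_dvd_index_of_le (hRC P)))⟩
      hcent
    have hKn : K.Normal := ⟨fun x hx g => hKall _ (Subgroup.Normal.conj_mem inferInstance x (hKC hx) g)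
      (by
        rw [MixedPrimes.orderOf_conj]
        exact fun hd => hKp (hd.trans (Subgroup.orderOf_dvd_natCard K hx)))⟩
    have hKcent : ∀ R : Sylow p G, (R : Subgroup G) ≤ centralizer (K : Set G) := by
      intro R
      obtain ⟨e', he', hep', z', hz', hez'⟩ := exists_moving hno R (hcyc R)
      refine sylow_le_centralizer (hcyc R) he' hep' hz' hez' ?_
      rw [Subgroup.mem_centralizer_iff]
      intro k hk
      have hsup : Nat.card (zpowers e' ⊔ K : Subgroup G) ∣ Nat.card (zpowers e') * Nat.card K :=
        Grp.card_sup_dvd_mul (le_top.trans (Subgroup.normalizer_eq_top (H := K)).ge)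
      refine hab (zpowers e' ⊔ K) (fun hd => ?_) k (mem_sup_right hk) e' (mem_sup_left (mem_zpowers e'))
      rcases hp.dvd_mul.mp (hd.trans hsup) with h | h
      · exact hep' (by rwa [Nat.card_zpowers] at h)
      · exact hKp h
    -- `P` is the only Sylow subgroup of `C`
    have hall : ∀ R : Sylow p G, R = P := by
      intro R
      obtain ⟨g, hg⟩ : ∃ g : C, g • P.subtype (hRC P) = R.subtype (hRC R) :=
        MulAction.exists_smul_eq C _ _
      -- write `g` as `k * x`
      have hgP : (g : G) ∈ normalizer ((P : Subgroup G) : Set G) := by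
        have hmem : (g : G) ∈ K ⊔ (P : Subgroup G) := by
          refine Transfer.prime_parts (g : G) _ fun l hl y hy hyg => ?_
          obtain ⟨k, hk⟩ := hy
          have hyC : y ∈ C := zpowers_le.mpr g.2 hyg
          by_cases hlp : l = p
          · subst hlp
            obtain ⟨S, hS⟩ := (isPGroup_zpowers hk).exists_le_sylow
            have hyS : y ∈ (S : Subgroup G) := hS (mem_zpowers y)
            have hcard : Nat.card (K ⊔ (P : Subgroup G) : Subgroup G) = Nat.card C := by
              refine Nat.dvd_antisymm (Subgroup.card_dvd_of_le (sup_le hKC (hRC P))) ?_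
              refine (Nat.dvd_iff_prime_pow_dvd_dvd _ _).2 fun r i hr hri => ?_
              rcases Nat.eq_zero_or_pos i with rfl | hi
              · rw [pow_zero]; exact one_dvd _
              by_cases hrp : r = l
              · subst hrp
                exact ((Nat.Prime.pow_dvd_iff_le_factorization hl Nat.card_pos.ne').mp
                  (hri.trans C.card_subgroup_dvd_card) |> fun h => (pow_dvd_pow r h).trans
                    (P.card_eq_multiplicity ▸ Subgroup.card_dvd_of_le le_sup_right))
              · have := Fact.mk hr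
                obtain ⟨T⟩ : Nonempty (Sylow r C) := inferInstance
                have hT : r ^ i ∣ Nat.card T := by
                  rw [T.card_eq_multiplicity]
                  exact pow_dvd_pow r ((Nat.Prime.pow_dvd_iff_le_factorization hr
                    Nat.card_pos.ne').mp hri)
                refine hT.trans ?_
                have hTK : (T : Subgroup C).map C.subtype ≤ K := by
                  rintro _ ⟨x, hx, rfl⟩
                  refine hKall _ x.2 fun hd => hrp ?_
                  obtain ⟨j, hj⟩ := exists_orderOf_eq T.isPGroup' hx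
                  rw [Subgroup.coe_subtype, Subgroup.orderOf_coe, hj] at hd
                  exact ((Nat.prime_dvd_prime_iff_eq hl hr).mp (hl.dvd_of_dvd_pow hd)).symm
                have := Subgroup.card_dvd_of_le (hTK.trans (le_sup_left : K ≤ K ⊔ (P : Subgroup G)))
                rwa [Subgroup.card_map_of_injective (Subgroup.subtype_injective _)] at this
            rw [Subgroup.eq_of_le_of_card_ge (sup_le hKC (hRC P)) hcard.ge]
            exact hyC
          · exact mem_sup_left (hKall y hyC fun hd => hlp (by
              rw [hk] at hd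
              exact ((Nat.prime_dvd_prime_iff_eq hp hl).mp (hp.dvd_of_dvd_pow hd)).symm))
        refine (sup_le ?_ Subgroup.le_normalizer) hmem
        intro k hk
        rw [Subgroup.mem_set_normalizer_iff]
        intro w
        have hkk : ∀ w ∈ (P : Subgroup G), k * w * k⁻¹ = w := fun w hw => by
          rw [Subgroup.mem_centralizer_iff.mp (hKcent P hw) k hk, mul_inv_cancel_right]
        constructor
        · intro hw; rw [SetLike.mem_coe, hkk w hw]; exact hw
        · intro hw
          have e1 := hkk _ hw
          have e2 : k * w * k⁻¹ = w := by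
            calc k * w * k⁻¹ = k⁻¹ * (k * (k * w * k⁻¹) * k⁻¹) * k := by group
              _ = k⁻¹ * (k * w * k⁻¹) * k := by rw [e1]
              _ = w := by group
          rw [SetLike.mem_coe, ← e2]; exact hw
      refine Sylow.ext (le_antisymm ?_ ?_).symm
      · intro x hx
        have hx' : (⟨x, hRC P hx⟩ : C) ∈ ((P.subtype (hRC P) : Sylow p C) : Subgroup C) := hx
        have h2 : g * ⟨x, hRC P hx⟩ * g⁻¹ ∈ ((g • P.subtype (hRC P) : Sylow p C) : Subgroup C) := by
          rw [Sylow.coe_subgroup_smul]
          exact (Subgroup.mem_smul_pointwise_iff_exists _ _ _).mpr ⟨_, hx', by simp [MulAut.smul_def]⟩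
        rw [hg] at h2
        have h3 : (g : G) * x * (g : G)⁻¹ ∈ (R : Subgroup G) := h2
        -- conjugate back inside `P`
        obtain ⟨y, hy, hyx⟩ : ∃ y ∈ (P : Subgroup G), (g : G) * y * (g : G)⁻¹ = x := by
          refine ⟨(g : G)⁻¹ * x * g, ?_, by group⟩
          have := (Subgroup.mem_set_normalizer_iff.mp (inv_mem hgP) x).mp hx
          rwa [inv_inv] at this
        have h4 : (g : G) * y * (g : G)⁻¹ ∈ (R : Subgroup G) := by
          have hy' : (⟨y, hRC P hy⟩ : C) ∈ ((P.subtype (hRC P) : Sylow p C) : Subgroup C) := hy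
          have h5 : g * ⟨y, hRC P hy⟩ * g⁻¹ ∈ ((g • P.subtype (hRC P) : Sylow p C) : Subgroup C) := by
            rw [Sylow.coe_subgroup_smul]
            exact (Subgroup.mem_smul_pointwise_iff_exists _ _ _).mpr
              ⟨_, hy', by simp [MulAut.smul_def]⟩
          rw [hg] at h5
          exact h5
        rwa [hyx] at h4
      · intro x hx
        have hx' : (⟨x, hRC R hx⟩ : C) ∈ ((R.subtype (hRC R) : Sylow p C) : Subgroup C) := hx
        rw [← hg, Sylow.coe_subgroup_smul] at hx'
        obtain ⟨y, hy, hyx⟩ := (Subgroup.mem_smul_pointwise_iff_exists _ _ _).mp hx'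
        have hyP : (y : G) ∈ (P : Subgroup G) := hy
        have e1 : x = (g : G) * y * (g : G)⁻¹ := by
          have := congrArg Subtype.val hyx
          simpa [MulAut.smul_def] using this.symm
        rw [e1]
        exact (Subgroup.mem_set_normalizer_iff.mp hgP _).mp hyP
    have : Subsingleton (Sylow p G) := ⟨fun a b => (hall a).trans (hall b).symm⟩
    exact hnn P (Sylow.normal_of_subsingleton P)
  -- no nontrivial normal `p'`-subgroup
  have hOp' : ∀ K : Subgroup G, K.Normal → ¬ p ∣ Nat.card K → K = ⊥ := by
    intro K hK hKp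
    by_contra hK1
    rcases ihquot K hK1 hKp with h | ⟨R, hR⟩
    · exact hno (Transfer.hasNormalPComplement_of_quotient K hKp h)
    · have heK : ∀ k ∈ K, k * e = e * k := by
        intro k hk
        have hsup : Nat.card (zpowers e ⊔ K : Subgroup G) ∣ Nat.card (zpowers e) * Nat.card K :=
          Grp.card_sup_dvd_mul (le_top.trans (Subgroup.normalizer_eq_top (H := K)).ge)
        refine hab (zpowers e ⊔ K) (fun hd => ?_) k (mem_sup_right hk) e (mem_sup_left (mem_zpowers e))
        rcases hp.dvd_mul.mp (hd.trans hsup) with h | h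
        · exact hep (by rwa [Nat.card_zpowers] at h)
        · exact hKp h
      have hPK : (P : Subgroup G) ≤ centralizer (K : Set G) :=
        sylow_le_centralizer (hcyc P) he hep hz hez
          (Subgroup.mem_centralizer_iff.mpr heK)
      set f := QuotientGroup.mk' K
      set M := (R : Subgroup (G ⧸ K)).comap f with hM
      have hMn : M.Normal := hR.comap f
      have hPM : (P : Subgroup G) ≤ M := by
        intro x hx
        obtain ⟨k, hk⟩ := exists_orderOf_eq P.isPGroup' hx
        obtain ⟨j, -, hj⟩ := (Nat.dvd_prime_pow hp).mp ((orderOf_map_dvd f x).trans (dvd_of_eq hk))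
        exact mem_of_normalizes R hj (by
          rw [Subgroup.normalizer_eq_top_iff.mpr hR]; exact Subgroup.mem_top _)
      -- the elements of `p`-power order of `M` form `P`
      have hall : ∀ x ∈ M, (∃ k, orderOf x = p ^ k) → x ∈ (P : Subgroup G) := by
        rintro x hxM ⟨k, hk⟩
        have hxPK : x ∈ (P : Subgroup G) ⊔ K := by
          have hle : (P : Subgroup G).map f = (R : Subgroup (G ⧸ K)) := by
            refine Subgroup.eq_of_le_of_card_ge (Subgroup.map_le_iff_le_comap.mpr hPM) ?_
            have hc : Nat.card ((P : Subgroup G).map f) = Nat.card (P : Subgroup G) := by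
              have hinj : Function.Injective (f.comp (P : Subgroup G).subtype) := by
                rw [← MonoidHom.ker_eq_bot_iff, Subgroup.eq_bot_iff_forall]
                intro a ha
                refine Subtype.ext (eq_one_of_mem P.isPGroup' a.2 fun hd => hKp (hd.trans ?_))
                exact Subgroup.orderOf_dvd_natCard K ((QuotientGroup.eq_one_iff (a : G)).mp ha)
              rw [Nat.card_congr (MonoidHom.ofInjective hinj).toEquiv, MonoidHom.range_comp,
                Subgroup.range_subtype]
            rw [hc, R.card_eq_multiplicity]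
            change _ ≤ Nat.card P
            rw [P.card_eq_multiplicity]
            refine Nat.pow_le_pow_right hp.pos ((Nat.factorization_le_iff_dvd Nat.card_pos.ne'
              Nat.card_pos.ne').mpr ?_ p)
            exact Subgroup.card_quotient_dvd_card K
          have hx' : f x ∈ (P : Subgroup G).map f := by rw [hle]; exact hxM
          obtain ⟨w, hw, hwx⟩ := hx'
          have hwk : w⁻¹ * x ∈ K := (QuotientGroup.eq).mp hwx
          rw [show x = w * (w⁻¹ * x) by group]
          exact mul_mem (mem_sup_left hw) (mem_sup_right hwk)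
        rw [← SetLike.mem_coe, Subgroup.coe_mul_of_right_le_normalizer_left] at hxPK
        · obtain ⟨w, hw, c, hc, rfl⟩ := hxPK
          obtain ⟨i, hi⟩ := exists_orderOf_eq P.isPGroup' hw
          have hwc : Commute w c := (Subgroup.mem_centralizer_iff.mp (hPK hw) c hc).symm
          suffices c = 1 by show w * c ∈ (P : Subgroup G); rw [this, mul_one]; exact hw
          have hcd : orderOf c ∣ p ^ (i + k) := by
            refine orderOf_dvd_of_pow_eq_one ?_
            have h1 : w ^ p ^ (i + k) = 1 := by rw [pow_add, pow_mul, ← hi, pow_orderOf_eq_one, one_pow]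
            have h2 : (w * c) ^ p ^ (i + k) = 1 := by
              rw [add_comm, pow_add, pow_mul, ← hk, pow_orderOf_eq_one, one_pow]
            rwa [hwc.mul_pow, h1, one_mul] at h2
          exact orderOf_eq_one_iff.mp (Nat.eq_one_of_dvd_coprimes
            (Nat.Coprime.pow_left _ (hp.coprime_iff_not_dvd.mpr hKp)) hcd
            (Subgroup.orderOf_dvd_natCard K hc))
        · intro c hc
          rw [Subgroup.mem_set_normalizer_iff]
          intro w
          have hkk : ∀ w ∈ (P : Subgroup G), c * w * c⁻¹ = w := fun w hw => by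
            rw [Subgroup.mem_centralizer_iff.mp (hPK hw) c hc, mul_inv_cancel_right]
          constructor
          · intro hw; rw [SetLike.mem_coe, hkk w hw]; exact hw
          · intro hw
            have e1 := hkk _ hw
            have e2 : c * w * c⁻¹ = w := by
              calc c * w * c⁻¹ = c⁻¹ * (c * (c * w * c⁻¹) * c⁻¹) * c := by group
                _ = c⁻¹ * (c * w * c⁻¹) * c := by rw [e1]
                _ = w := by group
            rw [SetLike.mem_coe, ← e2]; exact hw
      refine hnn P ⟨fun x hx g => ?_⟩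
      obtain ⟨k, hk⟩ := exists_orderOf_eq P.isPGroup' hx
      exact hall _ (hMn.conj_mem x (hPM hx) g) ⟨k, by rw [MixedPrimes.orderOf_conj, hk]⟩
  have hsimple : ∀ N : Subgroup G, N.Normal → N = ⊥ ∨ N = ⊤ := by
    intro N hN
    by_contra hc
    push Not at hc
    rcases hdich N hc.2 with h | ⟨R, hRp, hNR, hR⟩
    · obtain ⟨K, hKN, hNK, hKp, hKall⟩ := exists_complement_subgroup h
      have hKn : K.Normal := ⟨fun x hx g => hKall _ (hN.conj_mem x (hKN hx) g) (by
        rw [MixedPrimes.orderOf_conj]
        exact fun hd => hKp (hd.trans (Subgroup.orderOf_dvd_natCard K hx)))⟩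
      have hK0 := hOp' K hKn hKp
      refine hc.1 (hOp N hN fun x => ?_)
      obtain ⟨x, hx⟩ := x
      have hmem : x ^ p ^ (orderOf x).factorization p ∈ K := by
        refine hKall _ (pow_mem hx _) ?_
        rw [orderOf_pow' _ (pow_ne_zero _ hp.ne_zero), Nat.gcd_eq_right
          (Nat.ordProj_dvd (orderOf x) p)]
        exact Nat.not_dvd_ordCompl hp (orderOf_pos x).ne'
      rw [hK0, Subgroup.mem_bot] at hmem
      exact ⟨_, Subtype.ext hmem⟩
    · set T := Subgroup.closure {x : G | x ∈ N ∧ ∃ k, orderOf x = p ^ k} with hT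
      have hTR : T ≤ R := (Subgroup.closure_le R).mpr fun x hx => hR x hx.1 hx.2
      have hTn : T.Normal := by
        constructor
        intro x hx g
        induction hx using Subgroup.closure_induction with
        | mem y hy =>
          obtain ⟨hyN, k, hk⟩ := hy
          exact Subgroup.subset_closure
            ⟨hN.conj_mem y hyN g, k, by rw [MixedPrimes.orderOf_conj, hk]⟩
        | one => simp
        | mul y y' _ _ ihy ihy' =>
          rw [show g * (y * y') * g⁻¹ = (g * y * g⁻¹) * (g * y' * g⁻¹) by group]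
          exact mul_mem ihy ihy'
        | inv y _ ihy =>
          rw [show g * y⁻¹ * g⁻¹ = (g * y * g⁻¹)⁻¹ by group]
          exact inv_mem ihy
      have hT0 := hOp T hTn (hRp.to_le hTR)
      refine hc.1 (hOp' N hN fun hd => ?_)
      obtain ⟨⟨x, hx⟩, hxo⟩ := exists_prime_orderOf_dvd_card' p hd
      rw [Subgroup.orderOf_mk] at hxo
      have : x ∈ T := Subgroup.subset_closure ⟨hx, 1, by rw [pow_one, hxo]⟩
      rw [hT0, Subgroup.mem_bot] at this
      rw [this, orderOf_one] at hxo
      exact hp.one_lt.ne hxo
  refine ⟨hp, hcyc, hab, hsimple, ?_, hdvd, fun R => exists_moving hno R (hcyc R), hdich⟩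
  rcases hsimple (center G) inferInstance with h | h
  · exact h
  · exfalso
    refine hnn P ⟨fun x hx g => ?_⟩
    have := Subgroup.mem_center_iff.mp (show x ∈ center G by rw [h]; trivial) g
    rwa [this, mul_inv_cancel_right]

end Cfsg.Agent.Grp.CyclicAbelian
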