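import Mathlib
import Cfsg.Agent.Lib.Grp.CyclicAbelian.Reduction
import Cfsg.Agent.Lib.Transfer.Burnside

/-!
# The normalisers of the cyclic Sylow subgroups in a least counterexample
-/

namespace Cfsg.Agent.Grp.CyclicAbelian.Ctx

open Subgroup
open scoped commutatorElement
open Cfsg.Agent.Grp.MixedPrimes (mem_cs mem_of_normalizes exists_orderOf_eq isPGroup_zpowers)

universe u

variable {G : Type u} [Group G] [Finite G] {p : ℕ}

variable (h : Ctx G p)
include h

theorem fact : Fact p.Prime := ⟨h.hp⟩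

theorem centralizer_ne_top {x : G} (hx : x ≠ 1) : centralizer ({x} : Set G) ≠ ⊤ := fun he => by
  have : x ∈ center G := Subgroup.mem_center_iff.mpr fun g => mem_cs.mp (by rw [he]; trivial)
  rw [h.notAbelian, Subgroup.mem_bot] at this
  exact hx this

theorem not_comm_top {A : Subgroup G} (hA : A = ⊤) (hc : ∀ a ∈ A, ∀ b ∈ A, a * b = b * a)
    {x : G} (hx : x ≠ 1) : False := by
  have : x ∈ center G := Subgroup.mem_center_iff.mpr fun g =>
    hc g (by rw [hA]; trivial) x (by rw [hA]; trivial)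
  rw [h.notAbelian, Subgroup.mem_bot] at this
  exact hx this

theorem normalizer_ne_top {A : Subgroup G} {x : G} (hxA : x ∈ A) (hx : x ≠ 1)
    (hc : ∀ a ∈ A, ∀ b ∈ A, a * b = b * a) : normalizer (A : Set G) ≠ ⊤ := fun he => by
  rcases h.simple A (Subgroup.normalizer_eq_top_iff.mp he) with h2 | h2
  · rw [h2, Subgroup.mem_bot] at hxA; exact hx hxA
  · exact h.not_comm_top h2 hc hx

/-- Subgroups of `N(R)` containing `R` in which the moving element lies have no normal
`p`-complement, so normalise `R`. -/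
theorem le_normalizer_of_mem (R : Sylow p G) {H : Subgroup G} (hH : H ≠ ⊤)
    (hRH : (R : Subgroup G) ≤ H)
    (hmov : ∀ e ∈ normalizer ((R : Subgroup G) : Set G), ¬ p ∣ orderOf e → e ∈ H) :
    H ≤ normalizer ((R : Subgroup G) : Set G) := by
  have := h.fact
  rcases h.dich H hH with hc | ⟨R', hR', hHR, hall⟩
  · exfalso
    obtain ⟨K, hKH, hHK, hKp, hKall⟩ := exists_complement_subgroup hc
    obtain ⟨e, he, hep, z, hz, hez⟩ := h.moves R
    have heK := hKall e (hmov e he hep) hep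
    have h1 : e * z * e⁻¹ * z⁻¹ ∈ (R : Subgroup G) :=
      mul_mem ((Subgroup.mem_set_normalizer_iff.mp he z).mp hz) (inv_mem hz)
    have h2 : e * z * e⁻¹ * z⁻¹ ∈ K := by
      rw [show e * z * e⁻¹ * z⁻¹ = e * (z * e⁻¹ * z⁻¹) by group]
      exact mul_mem heK ((Subgroup.mem_set_normalizer_iff.mp (hHK (hRH hz)) _).mp (inv_mem heK))
    have h3 := eq_one_of_mem R.isPGroup' h1 fun hd =>
      hKp (hd.trans (Subgroup.orderOf_dvd_natCard K h2))
    exact hez (mul_inv_eq_iff_eq_mul.mp (mul_inv_eq_one.mp h3))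
  · have he : R' = (R : Subgroup G) := R.3 hR' fun x hx => hall x (hRH hx)
      (exists_orderOf_eq R.isPGroup' hx)
    rw [← he]
    exact hHR

theorem exists_order_p {x : G} {R : Subgroup G} (hR : IsPGroup p R) (hx : x ∈ R) (hx1 : x ≠ 1) :
    ∃ x₀ ∈ zpowers x, orderOf x₀ = p := by
  have := h.fact
  obtain ⟨k, hk⟩ := exists_orderOf_eq hR hx
  refine ⟨x ^ (orderOf x / p), Subgroup.npow_mem_zpowers x _, orderOf_pow_orderOf_div
    (orderOf_pos x).ne' ?_⟩
  rw [hk]
  exact dvd_pow_self p fun h0 => hx1 (orderOf_eq_one_iff.mp (by rw [hk, h0, pow_zero]))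

/-- The centraliser of a nontrivial element of a Sylow subgroup normalises it. -/
theorem cs_le (R : Sylow p G) {x : G} (hx : x ∈ (R : Subgroup G)) (hx1 : x ≠ 1) :
    centralizer ({x} : Set G) ≤ normalizer ((R : Subgroup G) : Set G) := by
  have := h.fact
  obtain ⟨x₀, hx₀, ho⟩ := h.exists_order_p R.isPGroup' hx hx1
  have hx₀R : x₀ ∈ (R : Subgroup G) := zpowers_le.mpr hx hx₀
  have hx₀1 : x₀ ≠ 1 := fun e => h.hp.one_lt.ne (by rw [← ho, e, orderOf_one])
  set H := normalizer ((zpowers x₀ : Subgroup G) : Set G) with hH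
  have hHt : H ≠ ⊤ := h.normalizer_ne_top (mem_zpowers x₀) hx₀1 fun a ha b hb =>
    comm_of_cyclic (h.cyc R) (zpowers_le.mpr hx₀R ha) (zpowers_le.mpr hx₀R hb)
  have hN : normalizer ((R : Subgroup G) : Set G) ≤ H := by
    intro g hg
    have hmem : ∀ g ∈ normalizer ((R : Subgroup G) : Set G), ∀ w ∈ zpowers x₀,
        g * w * g⁻¹ ∈ zpowers x₀ := by
      intro g hg w hw
      obtain ⟨n, rfl⟩ := Subgroup.mem_zpowers_iff.mp hw
      rw [← conj_zpow]
      refine zpow_mem (mem_zpowers_of_cyclic (h.cyc R) hx₀R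
        ((Subgroup.mem_set_normalizer_iff.mp hg x₀).mp hx₀R) ho ?_) n
      rw [conj_pow, ← ho, pow_orderOf_eq_one, mul_one, mul_inv_cancel]
    rw [hH, Subgroup.mem_set_normalizer_iff]
    intro w
    refine ⟨hmem g hg w, fun hw => ?_⟩
    have := hmem g⁻¹ (inv_mem hg) _ hw
    rwa [show g⁻¹ * (g * w * g⁻¹) * g⁻¹⁻¹ = w by group] at this
  refine le_trans ?_ (h.le_normalizer_of_mem R hHt (Subgroup.le_normalizer.trans hN)
    fun e he _ => hN he)
  intro g hg
  have hc : ∀ w ∈ zpowers x₀, g * w * g⁻¹ = w := fun w hw => by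
    obtain ⟨n, rfl⟩ := Subgroup.mem_zpowers_iff.mp (zpowers_le.mpr hx₀ hw)
    rw [(Commute.zpow_right (mem_cs.mp hg) n).eq, mul_inv_cancel_right]
  rw [hH, Subgroup.mem_set_normalizer_iff]
  intro w
  constructor
  · intro hw; rw [SetLike.mem_coe, hc w hw]; exact hw
  · intro hw
    have e1 := hc _ hw
    have e2 : g * w * g⁻¹ = w := by
      calc g * w * g⁻¹ = g⁻¹ * (g * (g * w * g⁻¹) * g⁻¹) * g := by group
        _ = g⁻¹ * (g * w * g⁻¹) * g := by rw [e1]
        _ = w := by group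
    rw [SetLike.mem_coe, ← e2]; exact hw

theorem sylow_unique {R R' : Sylow p G} {x : G} (hx : x ∈ (R : Subgroup G))
    (hx' : x ∈ (R' : Subgroup G)) (hx1 : x ≠ 1) : R = R' := by
  have := h.fact
  refine Sylow.ext (R'.3 R.isPGroup' fun y hy => ?_)
  obtain ⟨k, hk⟩ := exists_orderOf_eq R'.isPGroup' hy
  exact mem_of_normalizes R hk
    (h.cs_le R hx hx1 (mem_cs.mpr (comm_of_cyclic (h.cyc R') hy hx')))

/-- A `p'`-element commuting with a nontrivial element of `R` centralises `R`. -/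
theorem centralizes (R : Sylow p G) {x d : G} (hx : x ∈ (R : Subgroup G)) (hx1 : x ≠ 1)
    (hd : ¬ p ∣ orderOf d) (hdx : d * x = x * d) :
    d ∈ centralizer ((R : Subgroup G) : Set G) := by
  have := h.fact
  have hdN := h.cs_le R hx hx1 (mem_cs.mpr hdx)
  exact Subgroup.mem_centralizer_iff.mpr fun z hz =>
    (centralizes_of_fixed (h.cyc R) R.isPGroup' hd hdN hx hx1 hdx hz).symm

theorem sylow_ne_bot (R : Sylow p G) : (R : Subgroup G) ≠ ⊥ := by
  have := h.fact
  exact R.ne_bot_of_dvd_card h.dvd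

/-- `p'`-elements of `N(R)` and `C(R)` commute. -/
theorem comm_normal (R : Sylow p G) {d e : G} (hd : ¬ p ∣ orderOf d)
    (hdR : d ∈ centralizer ((R : Subgroup G) : Set G)) (he : ¬ p ∣ orderOf e)
    (heR : e ∈ normalizer ((R : Subgroup G) : Set G)) : d * e = e * d := by
  have := h.fact
  set C := centralizer ((R : Subgroup G) : Set G) with hC
  have hRC : (R : Subgroup G) ≤ C := fun x hx =>
    Subgroup.mem_centralizer_iff.mpr fun y hy => comm_of_cyclic (h.cyc R) hy hx
  obtain ⟨K, hKC, -, hKp, hKall⟩ := MixedPrimes.exists_complement_in (l := p) (H := C)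
    (S := (R : Subgroup G))
    ⟨hRC, R.isPGroup', fun hd => R.not_dvd_index (hd.trans (relIndex_dvd_index_of_le hRC))⟩
    (fun g hg _ s hs => (Subgroup.mem_centralizer_iff.mp hg s hs).symm)
  -- `e` normalises `C`, so its `p'`-elements
  have hconj : ∀ f ∈ normalizer ((R : Subgroup G) : Set G), ∀ k ∈ K, f * k * f⁻¹ ∈ K := by
    intro f hf k hk
    refine hKall _ (Subgroup.mem_centralizer_iff.mpr fun z hz => ?_) (by
      rw [MixedPrimes.orderOf_conj]
      exact fun hd => hKp (hd.trans (Subgroup.orderOf_dvd_natCard K hk)))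
    have hz' : f⁻¹ * z * f ∈ (R : Subgroup G) := by
      have := (Subgroup.mem_set_normalizer_iff.mp (inv_mem hf) z).mp hz
      rwa [inv_inv] at this
    have hc := Subgroup.mem_centralizer_iff.mp (hKC hk) _ hz'
    calc z * (f * k * f⁻¹) = f * ((f⁻¹ * z * f) * k) * f⁻¹ := by group
      _ = f * k * f⁻¹ * z := by rw [hc]; group
  have hn : zpowers e ≤ normalizer (K : Set G) := by
    rw [zpowers_le, Subgroup.mem_set_normalizer_iff]
    intro k
    refine ⟨hconj e heR k, fun hk => ?_⟩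
    have := hconj e⁻¹ (inv_mem heR) _ hk
    rwa [show e⁻¹ * (e * k * e⁻¹) * e⁻¹⁻¹ = k by group] at this
  refine h.abel (zpowers e ⊔ K) (fun hd' => ?_) d (mem_sup_right (hKall d hdR hd)) e
    (mem_sup_left (mem_zpowers e))
  rcases h.hp.dvd_mul.mp (hd'.trans (Grp.card_sup_dvd_mul hn)) with h1 | h1
  · exact he (by rwa [Nat.card_zpowers] at h1)
  · exact hKp h1

/-- The centraliser of a nontrivial `p'`-element centralising `R` is `N(R)`. -/
theorem centralizer_eq (R : Sylow p G) {d : G} (hd : ¬ p ∣ orderOf d) (hd1 : d ≠ 1)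
    (hdR : d ∈ centralizer ((R : Subgroup G) : Set G)) :
    centralizer ({d} : Set G) = normalizer ((R : Subgroup G) : Set G) := by
  have := h.fact
  have hRC : (R : Subgroup G) ≤ centralizer ({d} : Set G) := fun x hx =>
    mem_cs.mpr (Subgroup.mem_centralizer_iff.mp hdR x hx)
  refine le_antisymm (h.le_normalizer_of_mem R (h.centralizer_ne_top hd1) hRC
    fun e he hep => mem_cs.mpr (h.comm_normal R hd hdR hep he).symm) fun g hg => ?_
  refine Transfer.prime_parts g _ fun l hl y hy hyg => ?_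
  obtain ⟨k, hk⟩ := hy
  have hyN := zpowers_le.mpr hg hyg
  by_cases hlp : l = p
  · subst hlp; exact hRC (mem_of_normalizes R hk hyN)
  · refine mem_cs.mpr (h.comm_normal R hd hdR (fun hd' => hlp ?_) hyN).symm
    rw [hk] at hd'
    exact ((Nat.prime_dvd_prime_iff_eq h.hp hl).mp (h.hp.dvd_of_dvd_pow hd')).symm

/-- The prime is odd. -/
theorem p_ne_two : p ≠ 2 := by
  intro h2
  have := h.fact
  obtain ⟨R⟩ : Nonempty (Sylow p G) := inferInstance
  obtain ⟨e, he, hep, z, hz, hez⟩ := h.moves R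
  have hz1 : z ≠ 1 := fun e1 => hez (by rw [e1]; simp)
  obtain ⟨a, haz, ho⟩ := h.exists_order_p R.isPGroup' hz hz1
  have haR : a ∈ (R : Subgroup G) := zpowers_le.mpr hz haz
  have hea : e * a * e⁻¹ = a := by
    have hm := mem_zpowers_of_cyclic (h.cyc R) haR ((Subgroup.mem_set_normalizer_iff.mp he a).mp haR)
      ho (by rw [conj_pow, ← ho, pow_orderOf_eq_one, mul_one, mul_inv_cancel])
    obtain ⟨n, hn⟩ := Subgroup.mem_zpowers_iff.mp hm
    have ha2 : a * a = 1 := by
      have := pow_orderOf_eq_one a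
      rwa [ho, h2, pow_two] at this
    rcases Int.even_or_odd n with ⟨m, hm⟩ | ⟨m, hm⟩
    · rw [hm, ← two_mul, zpow_mul, zpow_two, ha2, one_zpow] at hn
      have := hn.symm
      rw [conj_eq_one_iff] at this
      rw [this, orderOf_one] at ho
      exact absurd ho h.hp.one_lt.ne
    · rw [hm, zpow_add, zpow_mul, zpow_two, ha2, one_zpow, one_mul, zpow_one] at hn
      exact hn.symm
  refine hez (centralizes_of_fixed (h.cyc R) R.isPGroup' hep he haR ?_
    (mul_inv_eq_iff_eq_mul.mp hea) hz)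
  exact fun e1 => h.hp.one_lt.ne (by rw [← ho, e1, orderOf_one])

/-- An element of a `p'`-Sylow subgroup is moved by an element of `p`-power order normalising it. -/
theorem exists_moving_in {q : ℕ} [hq : Fact q.Prime] (hqp : q ≠ p) (Q : Sylow q G) {d : G}
    (hd : d ∈ (Q : Subgroup G)) (hd1 : d ≠ 1) :
    ∃ g k, orderOf g = p ^ k ∧ g ∈ normalizer ((Q : Subgroup G) : Set G) ∧ g * d * g⁻¹ ≠ d := by
  by_contra hno
  push Not at hno
  have := h.fact
  have hQp : ∀ y ∈ (Q : Subgroup G), ¬ p ∣ orderOf y := fun y hy hdv => by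
    obtain ⟨j, hj⟩ := exists_orderOf_eq Q.isPGroup' hy
    rw [hj] at hdv
    exact hqp ((Nat.prime_dvd_prime_iff_eq h.hp hq.out).mp (h.hp.dvd_of_dvd_pow hdv)).symm
  have hQc : ¬ p ∣ Nat.card (Q : Subgroup G) := by
    obtain ⟨n, hn⟩ := IsPGroup.iff_card.mp Q.isPGroup'
    rw [hn]
    exact fun hdv => hqp ((Nat.prime_dvd_prime_iff_eq h.hp hq.out).mp (h.hp.dvd_of_dvd_pow hdv)).symm
  have hab := h.abel _ hQc
  have hcen : ∀ g ∈ normalizer ((Q : Subgroup G) : Set G), g * d = d * g := by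
    intro g hg
    refine (mem_cs.mp (Transfer.prime_parts g (centralizer ({d} : Set G)) fun l hl y hy hyg => ?_))
    obtain ⟨k, hk⟩ := hy
    have hyN := zpowers_le.mpr hg hyg
    rw [mem_cs]
    by_cases hlp : l = p
    · subst hlp; exact mul_inv_eq_iff_eq_mul.mp (hno y k hk hyN)
    · refine h.abel (zpowers y ⊔ (Q : Subgroup G)) (fun hd' => ?_) y
        (mem_sup_left (mem_zpowers y)) d (mem_sup_right hd)
      rcases h.hp.dvd_mul.mp (hd'.trans
        (Grp.card_sup_dvd_mul (zpowers_le.mpr hyN))) with h1 | h1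
      · rw [Nat.card_zpowers, hk] at h1
        exact hlp ((Nat.prime_dvd_prime_iff_eq h.hp hl).mp (h.hp.dvd_of_dvd_pow h1)).symm
      · exact hQc h1
  have hperfect : commutator G = ⊤ := (h.simple _ inferInstance).resolve_left fun hb => by
    refine hd1 ?_
    have hdc : d ∈ center G := Subgroup.mem_center_iff.mpr fun g => by
      have hgd : ⁅g, d⁆ ∈ commutator G :=
        Subgroup.commutator_mem_commutator (Subgroup.mem_top g) (Subgroup.mem_top d)
      rw [hb, Subgroup.mem_bot, commutatorElement_def, mul_inv_eq_one,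
        mul_inv_eq_iff_eq_mul] at hgd
      exact hgd
    rwa [h.notAbelian, Subgroup.mem_bot] at hdc
  let _ : CommGroup (Q : Subgroup G) :=
    { (inferInstance : Group (Q : Subgroup G)) with
      mul_comm := fun a b => Subtype.ext (hab a a.2 b b.2) }
  let τ := MonoidHom.transfer (MonoidHom.id (Q : Subgroup G))
  have htriv : ∀ x : G, τ x = 1 := by
    intro x
    have hx : x ∈ commutator G := by rw [hperfect]; trivial
    exact Abelianization.commutator_subset_ker τ hx
  have key : ∀ (m : ℕ) (g₀ : G), g₀⁻¹ * d ^ m * g₀ ∈ (Q : Subgroup G) →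
      g₀⁻¹ * d ^ m * g₀ = d ^ m := by
    intro m g₀ hm
    have hm' : g₀⁻¹ * d ^ m * g₀⁻¹⁻¹ ∈ (Q : Subgroup G) := by rwa [inv_inv]
    obtain ⟨n, hn, hnc⟩ := Transfer.exists_normalizer_conj_of_abelian Q
      ⟨⟨fun a b => Subtype.ext (hab a a.2 b b.2)⟩⟩ (Subgroup.pow_mem _ hd m) hm'
    rw [inv_inv] at hnc
    rw [← hnc, (Commute.pow_right (hcen n hn) m).eq, mul_inv_cancel_right]
  have he := MonoidHom.transfer_eq_pow (MonoidHom.id (Q : Subgroup G)) d key
  have hpow : d ^ (Q : Subgroup G).index = 1 := congrArg Subtype.val (he.symm.trans (htriv d))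
  obtain ⟨i, hi⟩ := exists_orderOf_eq Q.isPGroup' hd
  exact hd1 (orderOf_eq_one_iff.mp (Nat.eq_one_of_dvd_coprimes
    (Nat.Coprime.pow_left i (hq.out.coprime_iff_not_dvd.mpr Q.not_dvd_index))
    (dvd_of_eq hi) (orderOf_dvd_of_pow_eq_one hpow)))

/-- An element moving a `p'`-element which centralises `R` separates the centralising parts. -/
theorem eq_one_of_both (R : Sylow p G) {d g : G} {k : ℕ} (hg : orderOf g = p ^ k)
    {Q : Subgroup G} (hQp : ¬ p ∣ Nat.card Q) (hQR : Q ≤ normalizer ((R : Subgroup G) : Set G))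
    (hgQ : g ∈ normalizer (Q : Set G)) (hd : d ∈ Q) (hgd : g * d * g⁻¹ ≠ d) {b : G} (hb : b ∈ Q)
    (hbR : b ∈ centralizer ((R : Subgroup G) : Set G))
    (hgbR : g * b * g⁻¹ ∈ centralizer ((R : Subgroup G) : Set G)) : b = 1 := by
  by_contra hb1
  have := h.fact
  have hpb : ¬ p ∣ orderOf b := fun e => hQp (e.trans (Subgroup.orderOf_dvd_natCard Q hb))
  have hb1' : g * b * g⁻¹ ≠ 1 := by rw [Ne, conj_eq_one_iff]; exact hb1
  have e1 := h.centralizer_eq R hpb hb1 hbR
  have e2 := h.centralizer_eq R (by rwa [MixedPrimes.orderOf_conj]) hb1' hgbR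
  have hgN : g ∈ normalizer ((R : Subgroup G) : Set G) := by
    have hmem : ∀ z ∈ (R : Subgroup G), g * z * g⁻¹ ∈ (R : Subgroup G) := by
      intro z hz
      obtain ⟨j, hj⟩ := exists_orderOf_eq R.isPGroup' hz
      refine mem_of_normalizes R (k := j) (by rw [MixedPrimes.orderOf_conj, hj]) ?_
      rw [← e2, mem_cs]
      have hzb : z * b = b * z := Subgroup.mem_centralizer_iff.mp hbR z hz
      calc g * z * g⁻¹ * (g * b * g⁻¹) = g * (z * b) * g⁻¹ := by group
        _ = _ := by rw [hzb]; group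
    rw [Grp.mem_normalizer_iff_smul]
    refine Subgroup.eq_of_le_of_card_ge ?_ (le_of_eq ?_)
    · rintro _ ⟨z, hz, rfl⟩
      exact hmem z hz
    · exact (Subgroup.card_map_of_injective (MulAut.conj g).injective).symm
  have hgR := mem_of_normalizes R hg hgN
  refine hgd (mul_inv_eq_iff_eq_mul.mpr (commute_of_coprime_normalize ?_ hgR hd hgQ (hQR hd)))
  obtain ⟨n, hn⟩ := IsPGroup.iff_card.mp R.isPGroup'
  rw [hn]
  exact Nat.Coprime.pow_left n (h.hp.coprime_iff_not_dvd.mpr hQp)

end Cfsg.Agent.Grp.CyclicAbelian.Ctx
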