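import Mathlib
import Cfsg.Agent.Lib.Grp.CyclicAbelian.Structure
import Cfsg.Agent.Lib.Grp.MixedPrimes.Friendship

/-!
# A nontrivial `p'`-element centralising a Sylow `p`-subgroup

Then `p = 3`, Sylow `2`-subgroups are four-groups, and the involutions form a friendship graph
under commuting, which is impossible.
-/

namespace Cfsg.Agent.Grp.CyclicAbelian.Ctx

open Subgroup
open scoped commutatorElement
open Cfsg.Agent.Grp.MixedPrimes (mem_cs mem_of_normalizes exists_orderOf_eq isPGroup_zpowers)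

universe u

variable {G : Type u} [Group G] [Finite G] {p : ℕ}

theorem card_pow_eq_one_le_subgroup {H : Type*} [Group H] [Finite H] [IsCyclic H] {n : ℕ}
    (hn : 0 < n) (M : Subgroup H) (hM : ∀ x ∈ M, x ^ n = 1) : Nat.card M ≤ n := by
  classical
  have := Fintype.ofFinite H
  have hle : (M : Set H).ncard ≤ n := by
    refine (Set.ncard_le_ncard (t := {x : H | x ^ n = 1}) (fun x hx => hM x hx)
      (Set.toFinite _)).trans ?_
    rw [Set.ncard_eq_toFinset_card', Set.toFinset_setOf]
    exact IsCyclic.card_pow_eq_one_le hn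
  rwa [← Nat.card_coe_set_eq] at hle

/-- The action of an abelian `p'`-subgroup of `N(R)` on the subgroup of order `p`: a homomorphism
into a cyclic group whose kernel centralises `R`. -/
theorem exists_action (h : Ctx G p) (R : Sylow p G) {Q : Subgroup G}
    (hQp : ¬ p ∣ Nat.card Q) (hQR : Q ≤ normalizer ((R : Subgroup G) : Set G)) :
    ∃ f : Q →* (ZMod p)ˣ, ∀ u : Q, f u = 1 ↔ (u : G) ∈ centralizer ((R : Subgroup G) : Set G) := by
  have := h.fact
  obtain ⟨z, hz, hz1⟩ := (Subgroup.ne_bot_iff_exists_ne_one.mp (h.sylow_ne_bot R)).elim fun a ha =>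
    (⟨a.1, a.2, fun e => ha (Subtype.ext e)⟩ : ∃ z ∈ (R : Subgroup G), z ≠ 1)
  obtain ⟨x, hxz, ho⟩ := h.exists_order_p R.isPGroup' hz hz1
  have hxR : x ∈ (R : Subgroup G) := zpowers_le.mpr hz hxz
  have hx1 : x ≠ 1 := fun e => h.hp.one_lt.ne (by rw [← ho, e, orderOf_one])
  have hex : ∀ u : Q, ∃ c : ZMod p, (u : G) * x * (u : G)⁻¹ = x ^ c.val := by
    intro u
    have hm := mem_zpowers_of_cyclic (h.cyc R) hxR
      ((Subgroup.mem_set_normalizer_iff.mp (hQR u.2) x).mp hxR) ho
      (by rw [conj_pow, ← ho, pow_orderOf_eq_one, mul_one, mul_inv_cancel])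
    obtain ⟨n, hn⟩ := Subgroup.mem_zpowers_iff.mp hm
    refine ⟨(n : ZMod p), ?_⟩
    have : NeZero p := ⟨h.hp.ne_zero⟩
    rw [← hn, ← zpow_natCast, zpow_eq_zpow_iff_modEq, ho, ← ZMod.intCast_eq_intCast_iff]
    simp
  choose c hc using hex
  have hval : ∀ a b : ZMod p, x ^ a.val = x ^ b.val → a = b := by
    intro a b hab
    have : NeZero p := ⟨h.hp.ne_zero⟩
    rw [pow_eq_pow_iff_modEq, ho, ← ZMod.natCast_eq_natCast_iff] at hab
    simpa using hab
  have hone : c 1 = 1 := by
    have : Fact (1 < p) := ⟨h.hp.one_lt⟩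
    refine hval _ _ ?_
    rw [← hc, ZMod.val_one]; simp
  have hmul : ∀ u v : Q, c (u * v) = c u * c v := by
    intro u v
    have : NeZero p := ⟨h.hp.ne_zero⟩
    refine hval _ _ ?_
    rw [← hc, Subgroup.coe_mul,
      show (u : G) * v * x * ((u : G) * v)⁻¹ = u * (v * x * (v : G)⁻¹) * (u : G)⁻¹ by group,
      hc v, ← conj_pow, hc u, ← pow_mul, pow_eq_pow_iff_modEq, ho, ← ZMod.natCast_eq_natCast_iff]
    simp
  let F : Q →* ZMod p := { toFun := c, map_one' := hone, map_mul' := hmul }
  refine ⟨F.toHomUnits, fun u => ?_⟩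
  rw [Units.ext_iff, MonoidHom.coe_toHomUnits, Units.val_one]
  show c u = 1 ↔ _
  constructor
  · intro hu
    refine h.centralizes R hxR hx1 (fun e => hQp (e.trans (Subgroup.orderOf_dvd_natCard Q u.2))) ?_
    have : Fact (1 < p) := ⟨h.hp.one_lt⟩
    refine mul_inv_eq_iff_eq_mul.mp ?_
    rw [hc u, hu, ZMod.val_one, pow_one]
  · intro hu
    have : Fact (1 < p) := ⟨h.hp.one_lt⟩
    refine hval _ _ ?_
    rw [← hc, ZMod.val_one, pow_one, ← Subgroup.mem_centralizer_iff.mp hu x hxR,
      mul_inv_cancel_right]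

/-- A subgroup `Q` with a moving element has order at most the square of the bound of the action. -/
theorem card_le (h : Ctx G p) (R : Sylow p G) {d g : G} {k n : ℕ} (hn : 0 < n)
    (hg : orderOf g = p ^ k) {Q : Subgroup G} (hQp : ¬ p ∣ Nat.card Q)
    (hQR : Q ≤ normalizer ((R : Subgroup G) : Set G)) (hgQ : g ∈ normalizer (Q : Set G))
    (hd : d ∈ Q) (hgd : g * d * g⁻¹ ≠ d) (hdR : d ∈ centralizer ((R : Subgroup G) : Set G))
    (hpow : ∀ (f : Q →* (ZMod p)ˣ) (u : Q), f u ^ n = 1) :
    ∃ m, 1 < m ∧ m ≤ n ∧ m ∣ p - 1 ∧ Nat.card Q ≤ m * m := by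
  have := h.fact
  have : IsCyclic (ZMod p)ˣ := inferInstance
  obtain ⟨f, hf⟩ := h.exists_action R hQp hQR
  have hd1 : d ≠ 1 := fun e => hgd (by rw [e]; simp)
  set d' : G := g * d * g⁻¹ with hd'
  have hd'Q : d' ∈ Q := (Subgroup.mem_set_normalizer_iff.mp hgQ d).mp hd
  have hmoved : f ⟨d', hd'Q⟩ ≠ 1 := fun e =>
    hd1 (h.eq_one_of_both R hg hQp hQR hgQ hd hgd hd hdR ((hf _).mp e))
  refine ⟨Nat.card f.range, ?_, ?_, ?_, ?_⟩
  · exact (Subgroup.one_lt_card_iff_ne_bot _).mpr fun hb =>
      hmoved (Subgroup.mem_bot.mp (hb ▸ ⟨_, rfl⟩ : f ⟨d', hd'Q⟩ ∈ (⊥ : Subgroup (ZMod p)ˣ)))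
  · refine card_pow_eq_one_le_subgroup hn _ ?_
    rintro _ ⟨u, rfl⟩
    exact hpow f u
  · rw [← ZMod.card_units p, ← Nat.card_eq_fintype_card]
    exact Subgroup.card_subgroup_dvd_card _
  · have hmul := f.ker.card_mul_index
    rw [Subgroup.index_ker] at hmul
    have hker : Nat.card f.ker ≤ Nat.card f.range := by
      let φ : f.ker → f.range := fun b =>
        ⟨f ⟨g * (b : Q) * g⁻¹, (Subgroup.mem_set_normalizer_iff.mp hgQ _).mp (b : Q).2⟩, _, rfl⟩
      refine Nat.card_le_card_of_injective φ fun b b' e => ?_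
      have e' : f ⟨g * (b : Q) * g⁻¹, (Subgroup.mem_set_normalizer_iff.mp hgQ _).mp (b : Q).2⟩
          = f ⟨g * (b' : Q) * g⁻¹, (Subgroup.mem_set_normalizer_iff.mp hgQ _).mp (b' : Q).2⟩ :=
        congrArg Subtype.val e
      have hb : f ((b : Q)⁻¹ * b') = 1 := by
        rw [map_mul, map_inv, MonoidHom.mem_ker.mp b.2, MonoidHom.mem_ker.mp b'.2, inv_one, one_mul]
      have h2 : (((b : Q)⁻¹ * b' : Q) : G) = 1 := by
        refine h.eq_one_of_both R hg hQp hQR hgQ hd hgd (Subtype.prop _) ((hf _).mp hb) ((hf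
          ⟨g * (((b : Q)⁻¹ * b' : Q) : G) * g⁻¹,
            (Subgroup.mem_set_normalizer_iff.mp hgQ _).mp (Subtype.prop _)⟩).mp ?_)
        have e3 : (⟨g * (((b : Q)⁻¹ * b' : Q) : G) * g⁻¹,
            (Subgroup.mem_set_normalizer_iff.mp hgQ _).mp (Subtype.prop _)⟩ : Q)
            = (⟨g * (b : Q) * g⁻¹, (Subgroup.mem_set_normalizer_iff.mp hgQ _).mp (b : Q).2⟩ : Q)⁻¹
              * ⟨g * (b' : Q) * g⁻¹, (Subgroup.mem_set_normalizer_iff.mp hgQ _).mp (b' : Q).2⟩ :=
          Subtype.ext (by simp only [Subgroup.coe_mul, InvMemClass.coe_inv]; group)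
        rw [e3, map_mul, map_inv, e', inv_mul_cancel]
      have h3 : ((b : Q) : G) = ((b' : Q) : G) := by
        simpa [inv_mul_eq_one] using h2
      exact Subtype.ext (Subtype.ext h3)
    calc Nat.card Q = Nat.card f.ker * Nat.card f.range := hmul.symm
      _ ≤ _ := Nat.mul_le_mul_right _ hker

theorem exists_prime_part {d : G} (hd : d ≠ 1) :
    ∃ q e, q.Prime ∧ e ∈ zpowers d ∧ orderOf e = q := by
  obtain ⟨q, hq, hqd⟩ := Nat.exists_prime_and_dvd (fun e => hd (orderOf_eq_one_iff.mp e))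
  exact ⟨q, d ^ (orderOf d / q), hq, Subgroup.npow_mem_zpowers d _,
    orderOf_pow_orderOf_div (orderOf_pos d).ne' hqd⟩

/-- A nontrivial `p'`-element centralising `R` has prime divisor `2` only; then `p = 3` and the
Sylow `2`-subgroup is a four-group. -/
theorem two_three (h : Ctx G p) (R : Sylow p G) {q : ℕ} [hq : Fact q.Prime] {d : G}
    (hdq : orderOf d = q) (hqp : q ≠ p) (hdR : d ∈ centralizer ((R : Subgroup G) : Set G)) :
    q = 2 ∧ p = 3 ∧ ∀ Q : Sylow q G, d ∈ (Q : Subgroup G) → Nat.card (Q : Subgroup G) = 4 ∧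
      ∃ g k, orderOf g = p ^ k ∧ g ∈ normalizer ((Q : Subgroup G) : Set G) ∧ g * d * g⁻¹ ≠ d := by
  have := h.fact
  have hd1 : d ≠ 1 := fun e => hq.out.one_lt.ne (by rw [← hdq, e, orderOf_one])
  have hdp : ¬ p ∣ orderOf d := by
    rw [hdq]
    exact fun e => hqp ((Nat.prime_dvd_prime_iff_eq h.hp hq.out).mp e).symm
  have key : ∀ Q : Sylow q G, d ∈ (Q : Subgroup G) → q = 2 ∧ p = 3 ∧
      Nat.card (Q : Subgroup G) = 4 ∧
      ∃ g k, orderOf g = p ^ k ∧ g ∈ normalizer ((Q : Subgroup G) : Set G) ∧ g * d * g⁻¹ ≠ d := by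
    intro Q hdQ
    obtain ⟨g, k, hg, hgQ, hgd⟩ := h.exists_moving_in hqp Q hdQ hd1
    obtain ⟨N, hN⟩ := IsPGroup.iff_card.mp Q.isPGroup'
    have hQp : ¬ p ∣ Nat.card (Q : Subgroup G) := by
      rw [hN]
      exact fun e => hqp ((Nat.prime_dvd_prime_iff_eq h.hp hq.out).mp (h.hp.dvd_of_dvd_pow e)).symm
    have hab := h.abel _ hQp
    have hQR : (Q : Subgroup G) ≤ normalizer ((R : Subgroup G) : Set G) := by
      rw [← h.centralizer_eq R hdp hd1 hdR]
      exact fun u hu => mem_cs.mpr (hab u hu d hdQ)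
    -- the elements of order dividing `q`
    let E : Subgroup G :=
      { carrier := {u | u ∈ (Q : Subgroup G) ∧ u ^ q = 1}
        one_mem' := ⟨one_mem _, one_pow q⟩
        mul_mem' := fun {a b} ha hb => ⟨mul_mem ha.1 hb.1, by
          rw [(show Commute a b from hab a ha.1 b hb.1).mul_pow, ha.2, hb.2, one_mul]⟩
        inv_mem' := fun {a} ha => ⟨inv_mem ha.1, by rw [inv_pow, ha.2, inv_one]⟩ }
    have hEQ : E ≤ (Q : Subgroup G) := fun u hu => hu.1
    have hdE : d ∈ E := ⟨hdQ, by rw [← hdq]; exact pow_orderOf_eq_one d⟩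
    have hgE : g ∈ normalizer (E : Set G) := by
      rw [Subgroup.mem_set_normalizer_iff]
      intro u
      show (u ∈ (Q : Subgroup G) ∧ u ^ q = 1) ↔
        (g * u * g⁻¹ ∈ (Q : Subgroup G) ∧ (g * u * g⁻¹) ^ q = 1)
      rw [conj_pow, conj_eq_one_iff]
      exact and_congr_left' (Subgroup.mem_set_normalizer_iff.mp hgQ u)
    have hEp : ¬ p ∣ Nat.card E := fun e => hQp (e.trans (Subgroup.card_dvd_of_le hEQ))
    obtain ⟨m, hm1, hmq, hmp, hcard⟩ := h.card_le R hq.out.pos hg hEp (hEQ.trans hQR) hgE hdE hgd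
      hdR (fun f u => by
        rw [← map_pow, show u ^ q = 1 from Subtype.ext u.2.2, map_one])
    have horb := (MixedPrimes.orbit_cases hg hgE hdE hgd).1
    have h2p : 2 ≤ p := h.hp.two_le
    have hmle := Nat.le_of_dvd (by omega) hmp
    have hEpow : ∃ i, Nat.card E = q ^ i := IsPGroup.iff_card.mp (Q.isPGroup'.to_le hEQ)
    -- `|E| = q ^ 2` and `q < p`
    have hmm : m * m ≤ q * q := Nat.mul_le_mul hmq hmq
    have hqle : q ≤ p - 1 := by
      obtain ⟨i, hi⟩ := hEpow
      rcases Nat.lt_or_ge i 2 with hi2 | hi2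
      · exfalso
        have : q ^ i ≤ q := by
          calc q ^ i ≤ q ^ 1 := Nat.pow_le_pow_right hq.out.pos (by omega)
            _ = q := pow_one q
        have hdd : q ∣ Nat.card E := hdq ▸ Subgroup.orderOf_dvd_natCard E hdE
        obtain ⟨f, hf⟩ := h.exists_action R hEp (hEQ.trans hQR)
        -- `E = ⟨d⟩` centralises `R`
        have hE1 : (zpowers d : Subgroup G) = E := Subgroup.eq_of_le_of_card_ge
          (zpowers_le.mpr hdE) (by rw [Nat.card_zpowers, hdq]; omega)
        have hgd' : g * d * g⁻¹ ∈ zpowers d := by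
          rw [hE1]; exact (Subgroup.mem_set_normalizer_iff.mp hgE d).mp hdE
        exact hd1 (h.eq_one_of_both R hg hEp (hEQ.trans hQR) hgE hdE hgd hdE hdR
          (zpowers_le.mpr hdR hgd'))
      · have h4 : q * q ≤ m * m := by
          calc q * q = q ^ 2 := (pow_two q).symm
            _ ≤ q ^ i := Nat.pow_le_pow_right hq.out.pos hi2
            _ ≤ m * m := hi ▸ hcard
        have : q ≤ m := by nlinarith
        omega
    have hE2 : Nat.card E = q * q := by
      obtain ⟨i, hi⟩ := hEpow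
      have h3 : q + 1 < p + 1 := by omega
      rcases Nat.lt_trichotomy i 2 with hi2 | hi2 | hi2
      · exfalso
        have : q ^ i ≤ q := by
          calc q ^ i ≤ q ^ 1 := Nat.pow_le_pow_right hq.out.pos (by omega)
            _ = q := pow_one q
        omega
      · rw [hi, hi2, pow_two]
      · exfalso
        have h5 : q * q * q ≤ q ^ i := by
          calc q * q * q = q ^ 3 := by ring
            _ ≤ q ^ i := Nat.pow_le_pow_right hq.out.pos (by omega)
        have := hq.out.two_le
        have hqq : 1 * (q * q) < q * q * q := by nlinarith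
        omega
    -- orbits of `g` on `E`
    have hfix : Nat.card E ≡ {u : G | u ∈ E ∧ g * u = u * g}.ncard [MOD p] := by
      let _ : MulAction (zpowers g) E :=
        { smul := fun a u => ⟨(a : G) * u * (a : G)⁻¹,
            (Subgroup.mem_set_normalizer_iff.mp (zpowers_le.mpr hgE a.2) u).mp u.2⟩
          one_smul := fun u => Subtype.ext (by
            show ((1 : zpowers g) : G) * u * ((1 : zpowers g) : G)⁻¹ = u
            simp)
          mul_smul := fun a b u => Subtype.ext (by
            show ((a * b : zpowers g) : G) * u * ((a * b : zpowers g) : G)⁻¹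
              = (a : G) * ((b : G) * u * (b : G)⁻¹) * (a : G)⁻¹
            simp [mul_assoc]) }
      have hc := (isPGroup_zpowers hg).card_modEq_card_fixedPoints (α := E)
      refine hc.trans ?_
      rw [Nat.card_coe_set_eq, ← Set.ncard_image_of_injective _ Subtype.val_injective]
      refine congrArg (· % p) (congrArg Set.ncard (Set.ext fun u => ?_))
      constructor
      · rintro ⟨u, hu, rfl⟩
        exact ⟨u.2, mul_inv_eq_iff_eq_mul.mp (congrArg Subtype.val (hu ⟨g, mem_zpowers g⟩))⟩
      · rintro ⟨hu, hgu⟩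
        refine ⟨⟨u, hu⟩, fun a => Subtype.ext ?_, rfl⟩
        obtain ⟨n, hn⟩ := Subgroup.mem_zpowers_iff.mp a.2
        show (a : G) * u * (a : G)⁻¹ = u
        rw [← hn, (Commute.zpow_left hgu n).eq, mul_inv_cancel_right]
    set Fx : Subgroup G := E ⊓ centralizer ({g} : Set G) with hFx
    have hFxc : {u : G | u ∈ E ∧ g * u = u * g}.ncard = Nat.card Fx := by
      rw [← Nat.card_coe_set_eq]
      refine Nat.card_congr (Equiv.setCongr (Set.ext fun u => ?_))
      show u ∈ E ∧ g * u = u * g ↔ u ∈ E ∧ u ∈ centralizer ({g} : Set G)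
      rw [mem_cs, eq_comm (a := g * u)]
    rw [hFxc, hE2] at hfix
    have hFdvd : Nat.card Fx ∣ q ^ 2 := by
      rw [pow_two, ← hE2]; exact Subgroup.card_dvd_of_le inf_le_left
    obtain ⟨j, hj, hjc⟩ := (Nat.dvd_prime_pow hq.out).mp hFdvd
    have hj2 : j ≠ 2 := by
      intro e
      have hEF : Fx = E := Subgroup.eq_of_le_of_card_ge inf_le_left (by rw [hjc, e, hE2, pow_two])
      have : d ∈ Fx := by rw [hEF]; exact hdE
      exact hgd (mul_inv_eq_iff_eq_mul.mpr (mem_cs.mp this.2).symm)
    have hqlt : q < p := by omega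
    have hpq : q = 2 ∧ p = 3 := by
      have hj' : j = 0 ∨ j = 1 := by omega
      rcases hj' with rfl | rfl
      · rw [hjc, pow_zero] at hfix
        have hd2 : p ∣ q * q - 1 := (Nat.modEq_iff_dvd' (by nlinarith)).mp hfix.symm
        have : q * q - 1 = (q + 1) * (q - 1) := by
          have := Nat.sq_sub_sq q 1
          rw [pow_two, one_pow] at this
          exact this
        rw [this] at hd2
        rcases h.hp.dvd_mul.mp hd2 with h1 | h1
        · have hp1 := Nat.le_of_dvd (by omega) h1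
          have hp2 : p = q + 1 := by omega
          rcases hq.out.eq_two_or_odd with e | e
          · exact ⟨e, by omega⟩
          · exfalso
            rcases h.hp.eq_two_or_odd with e2 | e2
            · exact h.p_ne_two e2
            · omega
        · have := Nat.le_of_dvd (by have := hq.out.two_le; omega) h1
          omega
      · exfalso
        rw [hjc, pow_one] at hfix
        have hd2 : p ∣ q * q - q := (Nat.modEq_iff_dvd' (by nlinarith)).mp hfix.symm
        rw [show q * q - q = q * (q - 1) by rw [Nat.mul_sub_one]] at hd2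
        rcases h.hp.dvd_mul.mp hd2 with h1 | h1
        · exact absurd (Nat.le_of_dvd hq.out.pos h1) (by omega)
        · have := Nat.le_of_dvd (by have := hq.out.two_le; omega) h1
          omega
    obtain ⟨m', hm'1, hm'q, -, hcardQ⟩ := h.card_le R (n := 2) two_pos hg hQp hQR hgQ hdQ hgd hdR
      (fun f u => by
        have := ZMod.units_pow_card_sub_one_eq_one p (f u)
        rwa [show p - 1 = 2 by omega] at this)
    refine ⟨hpq.1, hpq.2, ?_, g, k, hg, hgQ, hgd⟩
    have h4 : Nat.card E ∣ Nat.card (Q : Subgroup G) := Subgroup.card_dvd_of_le hEQ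
    have h5 := Nat.le_of_dvd Nat.card_pos h4
    have hq4 : q * q = 4 := by simp [hpq.1]
    rw [hE2, hq4] at h5
    have : m' * m' ≤ 4 := by nlinarith
    omega
  obtain ⟨Q, hQ⟩ := (MixedPrimes.isPGroup_zpowers (p := q) (k := 1) (g := d)
    (by rw [pow_one, hdq])).exists_le_sylow
  obtain ⟨h1, h2, -, -⟩ := key Q (hQ (mem_zpowers d))
  exact ⟨h1, h2, fun Q hQ => (key Q hQ).2.2⟩

/-- No nontrivial `p'`-element centralises a nontrivial `p`-element. -/
theorem free (h : Ctx G p) (R : Sylow p G) {x d : G} (hx : x ∈ (R : Subgroup G)) (hx1 : x ≠ 1)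
    (hd : ¬ p ∣ orderOf d) (hdx : d * x = x * d) : d = 1 := by
  classical
  by_contra hd1
  have := h.fact
  have : Fact (Nat.Prime 2) := ⟨Nat.prime_two⟩
  have hdR := h.centralizes R hx hx1 hd hdx
  obtain ⟨q, a, hq, had, haq⟩ := exists_prime_part hd1
  have := Fact.mk hq
  have hqp : q ≠ p := fun e => hd (by
    rw [← e, ← haq]; exact orderOf_dvd_of_mem_zpowers had)
  have haR : a ∈ centralizer ((R : Subgroup G) : Set G) := zpowers_le.mpr hdR had
  obtain ⟨rfl, hp3, hsyl⟩ := h.two_three R haq hqp haR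
  -- all involutions are conjugate to `a`
  obtain ⟨Qa, hQa⟩ := (MixedPrimes.isPGroup_zpowers (p := 2) (k := 1) (g := a)
    (by rw [pow_one, haq])).exists_le_sylow
  have haQ : a ∈ (Qa : Subgroup G) := hQa (mem_zpowers a)
  obtain ⟨hQ4, g, k, hg, hgQ, hga⟩ := hsyl Qa haQ
  have hcard4 : ∀ Q : Sylow 2 G, Nat.card (Q : Subgroup G) = 4 := fun Q => by
    rw [← hQ4]
    exact Q.card_eq_multiplicity.trans Qa.card_eq_multiplicity.symm
  have hconj : ∀ u : G, orderOf u = 2 → ∃ c, c * a * c⁻¹ = u := by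
    intro u hu
    obtain ⟨Qu, hQu⟩ := (MixedPrimes.isPGroup_zpowers (p := 2) (k := 1) (g := u)
      (by rw [pow_one, hu])).exists_le_sylow
    obtain ⟨c, hc⟩ := MulAction.exists_smul_eq G Qa Qu
    have hu' : c⁻¹ * u * c ∈ (Qa : Subgroup G) := by
      have h1 := hQu (mem_zpowers u)
      rw [← hc, Sylow.coe_subgroup_smul, Subgroup.mem_pointwise_smul_iff_inv_smul_mem] at h1
      simpa [MulAut.smul_def] using h1
    have hu1 : c⁻¹ * u * c ≠ 1 := fun e => by
      have : u = 1 := by rw [show u = c * (c⁻¹ * u * c) * c⁻¹ by group, e]; group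
      rw [this, orderOf_one] at hu; omega
    obtain ⟨n, hn⟩ := (MixedPrimes.orbit_cases hg hgQ haQ hga).2 (by rw [hQ4, hp3]) _ hu' hu1
    exact ⟨c * g ^ n, by
      rw [show c * g ^ n * a * (c * g ^ n)⁻¹ = c * (g ^ n * a * (g ^ n)⁻¹) * c⁻¹ by group, hn]
      group⟩
  -- each involution centralises a Sylow subgroup and each Sylow subgroup one involution
  have hinvR : ∀ u : G, orderOf u = 2 →
      ∃ P : Sylow p G, u ∈ centralizer ((P : Subgroup G) : Set G) := by
    intro u hu
    obtain ⟨c, hc⟩ := hconj u hu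
    refine ⟨c • R, Subgroup.mem_centralizer_iff.mpr fun z hz => ?_⟩
    rw [Sylow.coe_subgroup_smul, SetLike.mem_coe,
      Subgroup.mem_pointwise_smul_iff_inv_smul_mem] at hz
    simp only [← map_inv, MulAut.smul_def, MulAut.conj_apply, inv_inv] at hz
    have := Subgroup.mem_centralizer_iff.mp haR _ hz
    rw [← hc]
    calc z * (c * a * c⁻¹) = c * (c⁻¹ * z * c * a) * c⁻¹ := by group
      _ = c * a * c⁻¹ * z := by rw [this]; group
  have h2p : ∀ u : G, orderOf u = 2 → ¬ p ∣ orderOf u := fun u hu e => by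
    rw [hu] at e
    exact h.p_ne_two ((Nat.prime_dvd_prime_iff_eq h.hp Nat.prime_two).mp e)
  have hu1 : ∀ u : G, orderOf u = 2 → u ≠ 1 := fun u hu e => by
    rw [e, orderOf_one] at hu; omega
  -- pairwise commuting involutions lie in a four-group
  have hquad : ∀ u v w : G, orderOf u = 2 → orderOf v = 2 → orderOf w = 2 → u * v = v * u →
      u * w = w * u → v * w = w * v → ∃ Q : Sylow 2 G,
        u ∈ (Q : Subgroup G) ∧ v ∈ (Q : Subgroup G) ∧ w ∈ (Q : Subgroup G) := by
    intro u v w hu hv hw huv huw hvw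
    have hKc : ∀ y ∈ ({u, v, w} : Set G), ∀ z ∈ ({u, v, w} : Set G), y * z = z * y := by
      rintro y (rfl | rfl | rfl) z (rfl | rfl | rfl) <;>
        first | rfl | exact huv | exact huv.symm | exact huw | exact huw.symm | exact hvw |
          exact hvw.symm
    have hKcm := Subgroup.isMulCommutative_closure hKc
    have hKp : IsPGroup 2 (Subgroup.closure ({u, v, w} : Set G)) := by
      rintro ⟨y, hy⟩
      refine ⟨1, Subtype.ext ?_⟩
      show y ^ 2 ^ 1 = 1
      rw [pow_one]
      induction hy using Subgroup.closure_induction with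
      | mem z hz =>
        have hz2 : orderOf z = 2 := by rcases hz with rfl | rfl | rfl <;> assumption
        rw [← hz2]; exact pow_orderOf_eq_one z
      | one => simp
      | mul z z' hz hz' ihz ihz' =>
        have : Commute z z' := congrArg Subtype.val (hKcm.is_comm.comm ⟨z, hz⟩ ⟨z', hz'⟩)
        rw [this.mul_pow, ihz, ihz', one_mul]
      | inv z _ ihz => rw [inv_pow, ihz, inv_one]
    obtain ⟨Q, hQ⟩ := hKp.exists_le_sylow
    exact ⟨Q, hQ (Subgroup.subset_closure (by simp)), hQ (Subgroup.subset_closure (by simp)),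
      hQ (Subgroup.subset_closure (by simp))⟩
  have hmul2 : ∀ u : G, orderOf u = 2 → u * u = 1 := fun u hu => MixedPrimes.mul_self_of_two hu
  have hthird : ∀ (Q : Sylow 2 G) (u v w : G), u ∈ (Q : Subgroup G) → v ∈ (Q : Subgroup G) →
      w ∈ (Q : Subgroup G) → orderOf u = 2 → orderOf v = 2 → orderOf w = 2 → u ≠ v → w ≠ u →
      w ≠ v → w = u * v := by
    intro Q u v w huQ hvQ hwQ hu hv hw huv hwu hwv
    by_contra hne
    have hsub : ({1, u, v, u * v, w} : Set G) ⊆ ((Q : Subgroup G) : Set G) := by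
      rintro y (rfl | rfl | rfl | rfl | rfl)
      exacts [one_mem _, huQ, hvQ, mul_mem huQ hvQ, hwQ]
    have h1 : u * v ≠ 1 := fun e => huv (by
      rw [← inv_eq_of_mul_eq_one_right e, MixedPrimes.inv_of_two hu])
    have h2 : u * v ≠ u := fun e => hu1 v hv (mul_left_cancel (e.trans (mul_one u).symm))
    have h3 : u * v ≠ v := fun e => hu1 u hu (mul_right_cancel (e.trans (one_mul v).symm))
    have h5 : ({1, u, v, u * v, w} : Set G).ncard = 5 := by
      rw [Set.ncard_insert_of_notMem, Set.ncard_insert_of_notMem, Set.ncard_insert_of_notMem,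
        Set.ncard_pair (Ne.symm hne)]
      · simp only [Set.mem_insert_iff, Set.mem_singleton_iff, not_or]
        exact ⟨h3.symm, hwv.symm⟩
      · simp only [Set.mem_insert_iff, Set.mem_singleton_iff, not_or]
        exact ⟨huv, h2.symm, hwu.symm⟩
      · simp only [Set.mem_insert_iff, Set.mem_singleton_iff, not_or]
        exact ⟨(hu1 u hu).symm, (hu1 v hv).symm, h1.symm, (hu1 w hw).symm⟩
    have := Set.ncard_le_ncard hsub (Set.toFinite _)
    rw [h5, ← Nat.card_coe_set_eq] at this
    change 5 ≤ Nat.card (Q : Subgroup G) at this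
    rw [hcard4 Q] at this
    omega
  have hcentral : ∀ (P : Sylow p G) (s w : G), orderOf s = 2 → orderOf w = 2 →
      s ∈ centralizer ((P : Subgroup G) : Set G) → w ∈ centralizer ((P : Subgroup G) : Set G) →
      s = w := by
    intro P s w hs hw hsP hwP
    by_contra hne
    have hsw := h.comm_normal P (h2p s hs) hsP (h2p w hw)
      (centralizer_le_normalizer _ hwP)
    obtain ⟨Q, hsQ, hwQ, -⟩ := hquad s w s hs hw hs hsw rfl hsw.symm
    have hsR : (Nat.card (Q : Subgroup G)) = 4 := hcard4 Q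
    obtain ⟨-, -, hsyl'⟩ := h.two_three P hs (fun e => h.p_ne_two e.symm) hsP
    obtain ⟨-, g', k', hg', hgQ', hgs⟩ := hsyl' Q hsQ
    obtain ⟨N, hN⟩ := IsPGroup.iff_card.mp Q.isPGroup'
    have hQp : ¬ p ∣ Nat.card (Q : Subgroup G) := by
      rw [hN]
      exact fun e => h.p_ne_two ((Nat.prime_dvd_prime_iff_eq h.hp Nat.prime_two).mp
        (h.hp.dvd_of_dvd_pow e))
    have hQP : (Q : Subgroup G) ≤ centralizer ((P : Subgroup G) : Set G) := by
      intro y hy
      rcases eq_or_ne y 1 with e | e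
      · rw [e]; exact one_mem _
      rcases eq_or_ne y s with e1 | e1
      · rw [e1]; exact hsP
      rcases eq_or_ne y w with e2 | e2
      · rw [e2]; exact hwP
      have hy2 : orderOf y = 2 := by
        obtain ⟨j, hj⟩ := exists_orderOf_eq Q.isPGroup' hy
        have hd4 : orderOf y ∣ 4 := by
          rw [← hcard4 Q]; exact Subgroup.orderOf_dvd_natCard _ hy
        obtain ⟨i, hi, hio⟩ := (Nat.dvd_prime_pow Nat.prime_two (m := 2)).mp (by simpa using hd4)
        rcases Nat.lt_trichotomy i 1 with hi1 | hi1 | hi1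
        · exact absurd (orderOf_eq_one_iff.mp (by rw [hio, show i = 0 by omega, pow_zero])) e
        · rw [hio, hi1, pow_one]
        · exfalso
          have hcyc : zpowers y = (Q : Subgroup G) := Subgroup.eq_of_le_of_card_ge
            (zpowers_le.mpr hy) (by rw [hcard4 Q, Nat.card_zpowers, hio, show i = 2 by omega]; norm_num)
          have hs' : s ∈ zpowers y := hcyc ▸ hsQ
          have hw' : w ∈ zpowers y := hcyc ▸ hwQ
          have : IsCyclic (zpowers y) := inferInstance
          exact hne (by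
            have hm := mem_zpowers_of_cyclic (p := 2) (P := zpowers y) this hs' hw' hs
              (by rw [pow_two]; exact hmul2 w hw)
            obtain ⟨n, hn⟩ := Subgroup.mem_zpowers_iff.mp hm
            rcases Int.even_or_odd n with ⟨l, hl⟩ | ⟨l, hl⟩
            · rw [hl, ← two_mul, zpow_mul, zpow_two, hmul2 s hs, one_zpow] at hn
              exact absurd hn.symm (hu1 w hw)
            · rw [hl, zpow_add, zpow_mul, zpow_two, hmul2 s hs, one_zpow, one_mul, zpow_one] at hn
              exact hn)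
      rw [hthird Q s w y hsQ hwQ hy hs hw hy2 hne e1 e2]
      exact mul_mem hsP hwP
    exact hu1 s hs (h.eq_one_of_both P hg' hQp
      (hQP.trans (centralizer_le_normalizer _)) hgQ' hsQ hgs hsQ hsP
      (hQP ((Subgroup.mem_set_normalizer_iff.mp hgQ' s).mp hsQ)))
  -- the graph
  set Rel : {a : G // orderOf a = 2} → {a : G // orderOf a = 2} → Prop :=
    fun a b => a ≠ b ∧ (a : G) * b = b * a with hRel
  have : Nonempty {a : G // orderOf a = 2} := ⟨⟨a, haq⟩⟩
  have hdeg : ∀ u, {b | Rel u b}.ncard = {b | Rel ⟨a, haq⟩ b}.ncard := by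
    intro u
    obtain ⟨c, hc⟩ := hconj u u.2
    refine (Set.ncard_congr (fun b _ => (⟨c * b.1 * c⁻¹, by
      rw [MixedPrimes.orderOf_conj, b.2]⟩ : {a : G // orderOf a = 2})) ?_ ?_ ?_).symm
    · rintro b ⟨hne, hcm⟩
      refine ⟨fun e => hne ?_, ?_⟩
      · have e' : (u : G) = c * b.1 * c⁻¹ := congrArg Subtype.val e
        rw [← hc] at e'
        exact Subtype.ext (mul_left_cancel (mul_right_cancel e'))
      · show (u : G) * (c * b.1 * c⁻¹) = c * b.1 * c⁻¹ * u
        rw [← hc]
        calc c * a * c⁻¹ * (c * b.1 * c⁻¹) = c * (a * b.1) * c⁻¹ := by group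
          _ = _ := by rw [show a * b.1 = b.1 * a from hcm]; group
    · intro b b' _ _ e
      exact Subtype.ext (mul_left_cancel (mul_right_cancel (congrArg Subtype.val e)))
    · rintro b ⟨hne, hcm⟩
      refine ⟨⟨c⁻¹ * b.1 * c, by
        have := MixedPrimes.orderOf_conj c⁻¹ b.1
        rw [inv_inv] at this
        rw [this, b.2]⟩, ⟨fun e => hne ?_, ?_⟩, Subtype.ext (by
          show c * (c⁻¹ * b.1 * c) * c⁻¹ = b.1
          group)⟩
      · have e' : a = c⁻¹ * b.1 * c := congrArg Subtype.val e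
        apply Subtype.ext
        rw [← hc, e']; group
      · show a * (c⁻¹ * b.1 * c) = c⁻¹ * b.1 * c * a
        have hcm' : (u : G) * b.1 = b.1 * u := hcm
        rw [← hc] at hcm'
        calc a * (c⁻¹ * b.1 * c) = c⁻¹ * (c * a * c⁻¹ * b.1) * c := by group
          _ = _ := by rw [hcm']; group
  have hlt := MixedPrimes.no_friendship Rel (fun a b hab => ⟨hab.1.symm, hab.2.symm⟩)
    (fun a ha => ha.1 rfl) _ hdeg ?_
  · -- `a` has three neighbours
    obtain ⟨b, hbQ, hb2, hba⟩ : ∃ b ∈ (Qa : Subgroup G), orderOf b = 2 ∧ b ≠ a := by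
      refine ⟨g * a * g⁻¹, (Subgroup.mem_set_normalizer_iff.mp hgQ a).mp haQ, ?_, hga⟩
      rw [MixedPrimes.orderOf_conj, haq]
    have hcmQ : a * b = b * a := by
      refine h.abel _ ?_ a haQ b hbQ
      rw [hQ4]
      intro e
      have := h.hp.dvd_of_dvd_pow (show p ∣ 2 ^ 2 by simpa using e)
      exact h.p_ne_two ((Nat.prime_dvd_prime_iff_eq h.hp Nat.prime_two).mp this)
    obtain ⟨x, hxz, hxo⟩ := h.exists_order_p R.isPGroup' hx hx1
    have hxR : x ∈ (R : Subgroup G) := zpowers_le.mpr hx hxz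
    have hxa : x * a = a * x := Subgroup.mem_centralizer_iff.mp haR x hxR
    have hbN : b ∈ normalizer ((R : Subgroup G) : Set G) := by
      rw [← h.centralizer_eq R (h2p a haq) (hu1 a haq) haR]
      exact mem_cs.mpr hcmQ.symm
    have hbx : b * x ≠ x * b := fun e => hba (hcentral R a b haq hb2 haR
      (h.centralizes R hxR (fun e1 => by rw [e1, orderOf_one] at hxo; exact h.hp.one_lt.ne hxo)
        (h2p b hb2) e)).symm
    set b1 := x * b * x⁻¹ with hb1
    set b2 := x⁻¹ * b * x with hb2'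
    have o1 : orderOf b1 = 2 := by rw [hb1, MixedPrimes.orderOf_conj, hb2]
    have o2 : orderOf b2 = 2 := by
      have := MixedPrimes.orderOf_conj x⁻¹ b
      rw [inv_inv] at this
      rw [hb2', this, hb2]
    have n1 : b1 ≠ b := fun e => hbx (mul_inv_eq_iff_eq_mul.mp e).symm
    have n2 : b2 ≠ b := fun e => hbx (by
      calc b * x = x * (x⁻¹ * b * x) := by group
        _ = x * b := by rw [← hb2', e])
    have n12 : b1 ≠ b2 := fun e => by
      have h3 : x * x * b = b * (x * x) := by
        calc x * x * b = x * (x * b * x⁻¹) * x := by group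
          _ = x * (x⁻¹ * b * x) * x := by rw [← hb1, e, hb2']
          _ = b * (x * x) := by group
      have hx3 : x ^ 3 = 1 := by rw [← hp3, ← hxo]; exact pow_orderOf_eq_one x
      have h4 : Commute (x * x * (x * x)) b := (show Commute (x * x) b from h3).mul_left h3
      rw [show x * x * (x * x) = x ^ 3 * x by simp [pow_succ, mul_assoc], hx3, one_mul] at h4
      exact hbx h4.eq.symm
    have e1 : x⁻¹ * a = a * x⁻¹ := (Commute.inv_left hxa).eq
    have na1 : b1 ≠ a := fun e => hba (by
      have : x * b * x⁻¹ = x * a * x⁻¹ := by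
        rw [← hb1, e, hxa, mul_inv_cancel_right]
      exact mul_left_cancel (mul_right_cancel this))
    have na2 : b2 ≠ a := fun e => hba (by
      have : x⁻¹ * b * x = x⁻¹ * a * x := by
        rw [← hb2', e, e1, inv_mul_cancel_right]
      exact mul_left_cancel (mul_right_cancel this))
    have c1 : a * b1 = b1 * a := by
      calc a * b1 = (a * x) * b * x⁻¹ := by rw [hb1]; group
        _ = x * (a * b) * x⁻¹ := by rw [← hxa]; group
        _ = x * b * (a * x⁻¹) := by rw [hcmQ]; group
        _ = b1 * a := by rw [← e1, hb1]; group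
    have c2 : a * b2 = b2 * a := by
      calc a * b2 = (a * x⁻¹) * b * x := by rw [hb2']; group
        _ = x⁻¹ * (a * b) * x := by rw [← e1]; group
        _ = x⁻¹ * b * (a * x) := by rw [hcmQ]; group
        _ = b2 * a := by rw [← hxa, hb2']; group
    let A : Set {a : G // orderOf a = 2} := {⟨b, hb2⟩, ⟨b1, o1⟩, ⟨b2, o2⟩}
    have hsub : A ⊆ {b | Rel ⟨a, haq⟩ b} := by
      rintro y (rfl | rfl | rfl)
      · exact ⟨fun e => hba (congrArg Subtype.val e).symm, hcmQ⟩
      · exact ⟨fun e => na1 (congrArg Subtype.val e).symm, c1⟩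
      · exact ⟨fun e => na2 (congrArg Subtype.val e).symm, c2⟩
    have hA : A.ncard = 3 := Set.ncard_eq_three.mpr ⟨_, _, _,
      fun e => n1 (congrArg Subtype.val e).symm, fun e => n2 (congrArg Subtype.val e).symm,
      fun e => n12 (congrArg Subtype.val e), rfl⟩
    have := Set.ncard_le_ncard hsub (Set.toFinite _)
    omega
  -- exactly one common neighbour
  rintro ⟨u, hu⟩ ⟨v, hv⟩ hne
  have huv : u ≠ v := fun e => hne (Subtype.ext e)
  rw [Set.ncard_eq_one]
  by_cases hc : u * v = v * u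
  · have h1 : u * v ≠ 1 := fun e => huv (by
      rw [← inv_eq_of_mul_eq_one_right e, MixedPrimes.inv_of_two hu])
    have hw2 : orderOf (u * v) = 2 := MixedPrimes.orderOf_two (by
      calc u * v * (u * v) = u * v * (v * u) := by rw [hc]
        _ = u * (v * v) * u := by group
        _ = 1 := by rw [hmul2 v hv, mul_one, hmul2 u hu]) h1
    refine ⟨⟨u * v, hw2⟩, Set.eq_singleton_iff_unique_mem.mpr ⟨?_, ?_⟩⟩
    · refine ⟨⟨fun e => ?_, ?_⟩, ⟨fun e => ?_, ?_⟩⟩
      · exact hu1 v hv (mul_left_cancel ((congrArg Subtype.val e).symm.trans (mul_one u).symm))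
      · show u * (u * v) = u * v * u
        rw [mul_assoc u v u, hc]
      · exact hu1 u hu (mul_right_cancel ((congrArg Subtype.val e).symm.trans (one_mul v).symm))
      · show v * (u * v) = u * v * v
        rw [← mul_assoc, hc]
    · rintro ⟨w, hw⟩ ⟨⟨hwu, hwu'⟩, ⟨hwv, hwv'⟩⟩
      obtain ⟨Q, huQ, hvQ, hwQ⟩ := hquad u v w hu hv hw hc hwu' hwv'
      exact Subtype.ext (hthird Q u v w huQ hvQ hwQ hu hv hw huv
        (fun e => hwu (Subtype.ext e.symm)) (fun e => hwv (Subtype.ext e.symm)))
  · -- an element of `p`-power order in `⟨u * v⟩`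
    set z := u * v with hz
    have hzinv : ∀ t : G, (t = u ∨ t = v) → t * z * t⁻¹ = z⁻¹ := by
      intro t ht
      rcases ht with e | e <;> rw [e]
      · rw [hz, mul_inv_rev, MixedPrimes.inv_of_two hu, MixedPrimes.inv_of_two hv]
        calc u * (u * v) * u = u * u * (v * u) := by group
          _ = v * u := by rw [hmul2 u hu, one_mul]
      · rw [hz, mul_inv_rev, MixedPrimes.inv_of_two hu, MixedPrimes.inv_of_two hv]
        calc v * (u * v) * v = v * u * (v * v) := by group
          _ = v * u := by rw [hmul2 v hv, mul_one]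
    have hpz : p ∣ orderOf z := by
      by_contra hpz
      have hn : zpowers u ≤ normalizer (zpowers z : Set G) := by
        rw [zpowers_le, Grp.mem_normalizer_iff_smul, ← Grp.map_conj_eq_smul,
          MonoidHom.map_zpowers]
        show zpowers (u * z * u⁻¹) = zpowers z
        rw [hzinv u (Or.inl rfl), Subgroup.zpowers_inv]
      have hab := h.abel (zpowers u ⊔ zpowers z) (fun e => ?_) u (mem_sup_left (mem_zpowers u))
        (u * z) (mul_mem (mem_sup_left (mem_zpowers u)) (mem_sup_right (mem_zpowers z)))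
      · rw [show u * z = v by rw [hz, ← mul_assoc, hmul2 u hu, one_mul]] at hab
        exact hc hab
      · rcases h.hp.dvd_mul.mp (e.trans (Grp.card_sup_dvd_mul hn)) with h1 | h1
        · rw [Nat.card_zpowers] at h1; exact h2p u hu h1
        · rw [Nat.card_zpowers] at h1; exact hpz h1
    set y := z ^ (orderOf z / p) with hy
    have hyz : y ∈ zpowers z := Subgroup.npow_mem_zpowers z _
    have hyo : orderOf y = p := orderOf_pow_orderOf_div (orderOf_pos z).ne' hpz
    have hy1 : y ≠ 1 := fun e => h.hp.one_lt.ne (by rw [← hyo, e, orderOf_one])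
    obtain ⟨P, hP⟩ := (isPGroup_zpowers (p := p) (k := 1) (g := y)
      (by rw [pow_one, hyo])).exists_le_sylow
    have hyP : y ∈ (P : Subgroup G) := hP (mem_zpowers y)
    obtain ⟨c, hc'⟩ := MulAction.exists_smul_eq G R P
    set s := c * a * c⁻¹ with hs
    have hs2 : orderOf s = 2 := by rw [hs, MixedPrimes.orderOf_conj, haq]
    have hsP : s ∈ centralizer ((P : Subgroup G) : Set G) := by
      refine Subgroup.mem_centralizer_iff.mpr fun w hw => ?_
      rw [← hc', Sylow.coe_subgroup_smul, SetLike.mem_coe,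
        Subgroup.mem_pointwise_smul_iff_inv_smul_mem] at hw
      simp only [← map_inv, MulAut.smul_def, MulAut.conj_apply, inv_inv] at hw
      have := Subgroup.mem_centralizer_iff.mp haR _ hw
      rw [hs]
      calc w * (c * a * c⁻¹) = c * (c⁻¹ * w * c * a) * c⁻¹ := by group
        _ = c * a * c⁻¹ * w := by rw [this]; group
    have huniq : ∀ w : G, orderOf w = 2 → w * y = y * w → w = s := fun w hw hwy =>
      hcentral P w s hw hs2 (h.centralizes P hyP hy1 (h2p w hw) hwy) hsP
    have hsy : s * y = y * s := (Subgroup.mem_centralizer_iff.mp hsP y hyP).symm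
    have hinv : ∀ t : G, (t = u ∨ t = v) → t * y * t⁻¹ = y⁻¹ := fun t ht => by
      rw [hy, ← conj_pow, hzinv t ht, inv_pow]
    have hfix : ∀ t : G, orderOf t = 2 → (t = u ∨ t = v) → t ≠ s ∧ t * s = s * t := by
      intro t ht htuv
      refine ⟨fun e => hy1 ?_, ?_⟩
      · have h1 := hinv t htuv
        rw [e, hsy, mul_inv_cancel_right] at h1
        exact MixedPrimes.eq_one_of_inverted_of_fixed h.hp h.p_ne_two (k := 1)
          (by rw [pow_one, hyo]) h1.symm
      · refine mul_inv_eq_iff_eq_mul.mp (huniq (t * s * t⁻¹)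
          (by rw [MixedPrimes.orderOf_conj, hs2]) ?_)
        have h1 := hinv t htuv
        have h2 : Commute (t * s * t⁻¹) y⁻¹ := by
          show t * s * t⁻¹ * y⁻¹ = y⁻¹ * (t * s * t⁻¹)
          rw [← h1]
          calc t * s * t⁻¹ * (t * y * t⁻¹) = t * (s * y) * t⁻¹ := by group
            _ = _ := by rw [hsy]; group
        exact (Commute.inv_right_iff.mp h2).eq
    refine ⟨⟨s, hs2⟩, Set.eq_singleton_iff_unique_mem.mpr ⟨?_, ?_⟩⟩
    · exact ⟨⟨fun e => (hfix u hu (Or.inl rfl)).1 (congrArg Subtype.val e),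
        (hfix u hu (Or.inl rfl)).2⟩,
        ⟨fun e => (hfix v hv (Or.inr rfl)).1 (congrArg Subtype.val e),
        (hfix v hv (Or.inr rfl)).2⟩⟩
    · rintro ⟨w, hw⟩ ⟨⟨-, hwu'⟩, ⟨-, hwv'⟩⟩
      refine Subtype.ext (huniq w hw ?_)
      obtain ⟨n, hn⟩ := Subgroup.mem_zpowers_iff.mp hyz
      rw [← hn]
      exact (Commute.zpow_left (Commute.mul_left hwu' hwv') n).eq.symm

end Cfsg.Agent.Grp.CyclicAbelian.Ctx
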