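import Mathlib
import Cfsg.Agent.Lib.Grp.CyclicAbelian.Klein
import Cfsg.Agent.S0182

/-!
# No least counterexample

Every centraliser is abelian, so the order is even; then a count of the conjugates of an
involution which do not commute with it gives a contradiction.
-/

namespace Cfsg.Agent.Grp.CyclicAbelian.Ctx

open Subgroup
open scoped commutatorElement
open Cfsg.Agent.Grp.MixedPrimes (mem_cs mem_of_normalizes exists_orderOf_eq isPGroup_zpowers)

universe u

variable {G : Type u} [Group G] [Finite G] {p : ℕ}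

/-- The centraliser of a nontrivial element of `R` is `R`. -/
theorem cs_eq (h : Ctx G p) (R : Sylow p G) {x : G} (hx : x ∈ (R : Subgroup G)) (hx1 : x ≠ 1) :
    centralizer ({x} : Set G) = (R : Subgroup G) := by
  have := h.fact
  refine le_antisymm (fun g hg => ?_) fun y hy =>
    mem_cs.mpr (comm_of_cyclic (h.cyc R) hy hx)
  refine Transfer.prime_parts g _ fun l hl y hy hyg => ?_
  obtain ⟨k, hk⟩ := hy
  have hyC := zpowers_le.mpr hg hyg
  by_cases hlp : l = p
  · subst hlp; exact mem_of_normalizes R hk (h.cs_le R hx hx1 hyC)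
  · rw [h.free R hx hx1 (d := y) (fun hd => hlp (by
      rw [hk] at hd
      exact ((Nat.prime_dvd_prime_iff_eq h.hp hl).mp (h.hp.dvd_of_dvd_pow hd)).symm))
      (mem_cs.mp hyC)]
    exact one_mem _

/-- All centralisers are abelian. -/
theorem cs_comm (h : Ctx G p) {g : G} (hg : g ≠ 1) {a b : G}
    (ha : a ∈ centralizer ({g} : Set G)) (hb : b ∈ centralizer ({g} : Set G)) : a * b = b * a := by
  have := h.fact
  by_cases hpd : p ∣ Nat.card (centralizer ({g} : Set G))
  · obtain ⟨⟨y, hy⟩, hyo⟩ := exists_prime_orderOf_dvd_card' p hpd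
    rw [Subgroup.orderOf_mk] at hyo
    obtain ⟨R, hR⟩ := (isPGroup_zpowers (p := p) (k := 1) (g := y)
      (by rw [pow_one, hyo])).exists_le_sylow
    have hyR : y ∈ (R : Subgroup G) := hR (mem_zpowers y)
    have hy1 : y ≠ 1 := fun e => h.hp.one_lt.ne (by rw [← hyo, e, orderOf_one])
    have hgR : g ∈ (R : Subgroup G) := by
      rw [← h.cs_eq R hyR hy1]; exact mem_cs.mpr (mem_cs.mp hy).symm
    rw [h.cs_eq R hgR hg] at ha hb
    exact comm_of_cyclic (h.cyc R) ha hb
  · exact h.abel _ hpd a ha b hb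

theorem even (h : Ctx G p) : 2 ∣ Nat.card G := by
  by_contra h2
  have hodd : Odd (Nat.card G) := Nat.odd_iff.mpr (Nat.two_dvd_ne_zero.mp h2)
  have hsolv := S0182.result hodd fun x hx a ha b hb => h.cs_comm hx ha hb
  obtain ⟨R⟩ : Nonempty (Sylow p G) := inferInstance
  obtain ⟨z, hz, hz1⟩ := (Subgroup.ne_bot_iff_exists_ne_one.mp (h.sylow_ne_bot R)).elim fun a ha =>
    (⟨a.1, a.2, fun e => ha (Subtype.ext e)⟩ : ∃ z ∈ (R : Subgroup G), z ≠ 1)
  have htop : (⊤ : Subgroup G) ≠ ⊥ := fun e => hz1 (by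
    have : z ∈ (⊥ : Subgroup G) := e ▸ Subgroup.mem_top z
    rwa [Subgroup.mem_bot] at this)
  have hs : Group.IsSolvable (⊤ : Subgroup G) := inferInstance
  have hlt := Grp.commutator_lt_self_of_solvable hs htop
  rcases h.simple ⁅(⊤ : Subgroup G), (⊤ : Subgroup G)⁆ inferInstance with hb | hb
  · refine h.not_comm_top rfl (fun a ha b hb' => ?_) hz1
    have hab := Subgroup.commutator_mem_commutator ha hb'
    rw [hb, Subgroup.mem_bot, commutatorElement_def, mul_inv_eq_one, mul_inv_eq_iff_eq_mul] at hab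
    exact hab
  · exact hlt.ne hb

/-- There is no least counterexample. -/
theorem false_of_ctx (h : Ctx G p) : False := by
  classical
  have := h.fact
  have : Fact (Nat.Prime 2) := ⟨Nat.prime_two⟩
  obtain ⟨t, ht⟩ := exists_prime_orderOf_dvd_card' 2 h.even
  have ht1 := MixedPrimes.ne_one_of_two ht
  have ht2 := MixedPrimes.mul_self_of_two ht
  have htp : ¬ p ∣ orderOf t := fun e => by
    rw [ht] at e
    exact h.p_ne_two ((Nat.prime_dvd_prime_iff_eq h.hp Nat.prime_two).mp e)
  set M := centralizer ({t} : Set G) with hM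
  have hMp : ¬ p ∣ Nat.card M := by
    intro hd
    obtain ⟨⟨y, hy⟩, hyo⟩ := exists_prime_orderOf_dvd_card' p hd
    rw [Subgroup.orderOf_mk] at hyo
    obtain ⟨R, hR⟩ := (isPGroup_zpowers (p := p) (k := 1) (g := y)
      (by rw [pow_one, hyo])).exists_le_sylow
    have hy1 : y ≠ 1 := fun e => h.hp.one_lt.ne (by rw [← hyo, e, orderOf_one])
    exact ht1 (h.free R (hR (mem_zpowers y)) hy1 htp (mem_cs.mp hy).symm)
  -- `t` inverts the Sylow subgroups it normalises
  have hnorm : ∀ R : Sylow p G, t ∈ normalizer ((R : Subgroup G) : Set G) →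
      ∀ x ∈ (R : Subgroup G), t * x * t⁻¹ = x⁻¹ := by
    intro R hR x hx
    set y := t * x * t⁻¹ with hy
    have hyR : y ∈ (R : Subgroup G) := (Subgroup.mem_set_normalizer_iff.mp hR x).mp hx
    have hc := comm_of_cyclic (h.cyc R) hx hyR
    have hty : t * y * t⁻¹ = x := by
      rw [hy, show t * (t * x * t⁻¹) * t⁻¹ = t * t * x * (t * t)⁻¹ by group, ht2]
      group
    have h1 : x * y = 1 := by
      by_contra hne
      refine ht1 (h.free R (mul_mem hx hyR) hne htp (mul_inv_eq_iff_eq_mul.mp ?_))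
      calc t * (x * y) * t⁻¹ = (t * x * t⁻¹) * (t * y * t⁻¹) := by group
        _ = y * x := by rw [hty, ← hy]
        _ = x * y := hc.symm
    exact eq_inv_of_mul_eq_one_right h1
  -- a noncommuting conjugate gives a Sylow subgroup normalised by `t`
  have exR : ∀ u : G, orderOf u = 2 → t * u ≠ u * t → ∃ R : Sylow p G,
      t ∈ normalizer ((R : Subgroup G) : Set G) ∧ t * u ∈ (R : Subgroup G) := by
    intro u hu hne
    set z := t * u with hz
    have htz : t * z * t⁻¹ = z⁻¹ := by
      rw [hz, mul_inv_rev, MixedPrimes.inv_of_two ht, MixedPrimes.inv_of_two hu]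
      calc t * (t * u) * t = t * t * (u * t) := by group
        _ = u * t := by rw [ht2, one_mul]
    have hpz : p ∣ orderOf z := by
      by_contra hpz
      have hn : zpowers t ≤ normalizer (zpowers z : Set G) := by
        rw [zpowers_le, Grp.mem_normalizer_iff_smul, ← Grp.map_conj_eq_smul, MonoidHom.map_zpowers]
        show zpowers (t * z * t⁻¹) = zpowers z
        rw [htz, Subgroup.zpowers_inv]
      have hab := h.abel (zpowers t ⊔ zpowers z) (fun e => ?_) t (mem_sup_left (mem_zpowers t))
        (t * z) (mul_mem (mem_sup_left (mem_zpowers t)) (mem_sup_right (mem_zpowers z)))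
      · rw [show t * z = u by rw [hz, ← mul_assoc, ht2, one_mul]] at hab
        exact hne hab
      · rcases h.hp.dvd_mul.mp (e.trans (Grp.card_sup_dvd_mul hn)) with h1 | h1
        · rw [Nat.card_zpowers] at h1; exact htp h1
        · rw [Nat.card_zpowers] at h1; exact hpz h1
    set y := z ^ (orderOf z / p) with hy
    have hyo : orderOf y = p := orderOf_pow_orderOf_div (orderOf_pos z).ne' hpz
    have hy1 : y ≠ 1 := fun e => h.hp.one_lt.ne (by rw [← hyo, e, orderOf_one])
    obtain ⟨R, hR⟩ := (isPGroup_zpowers (p := p) (k := 1) (g := y)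
      (by rw [pow_one, hyo])).exists_le_sylow
    have hyR : y ∈ (R : Subgroup G) := hR (mem_zpowers y)
    have hC := h.cs_eq R hyR hy1
    refine ⟨R, ?_, ?_⟩
    · rw [← hC]
      exact MixedPrimes.mem_normalizer_cs (by rw [hy, ← conj_pow, htz, inv_pow])
    · rw [← hC, mem_cs, hy]
      exact (Commute.self_pow z _).eq
  set Cl : Set G := {u | IsConj t u} with hCl
  have hClord : ∀ u ∈ Cl, orderOf u = 2 := by
    intro u hu
    obtain ⟨c, hc⟩ := isConj_iff.mp hu
    rw [← hc, MixedPrimes.orderOf_conj, ht]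
  -- there is a noncommuting conjugate
  obtain ⟨u₀, hu₀, hne₀⟩ : ∃ u ∈ Cl, t * u ≠ u * t := by
    by_contra hno
    push Not at hno
    set K := Subgroup.closure Cl with hK
    have hKn : K.Normal := by
      constructor
      intro x hx g
      induction hx using Subgroup.closure_induction with
      | mem y hy =>
        exact Subgroup.subset_closure (IsConj.trans hy (isConj_iff.mpr ⟨g, rfl⟩))
      | one => simp
      | mul y y' _ _ ihy ihy' =>
        rw [show g * (y * y') * g⁻¹ = (g * y * g⁻¹) * (g * y' * g⁻¹) by group]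
        exact mul_mem ihy ihy'
      | inv y _ ihy =>
        rw [show g * y⁻¹ * g⁻¹ = (g * y * g⁻¹)⁻¹ by group]
        exact inv_mem ihy
    have htK : t ∈ K := Subgroup.subset_closure (IsConj.refl t)
    rcases h.simple K hKn with hb | htop
    · rw [hb, Subgroup.mem_bot] at htK; exact ht1 htK
    · have hcm : ∀ x ∈ K, t * x = x * t := by
        intro x hx
        induction hx using Subgroup.closure_induction with
        | mem y hy => exact hno y hy
        | one => simp
        | mul y y' _ _ ihy ihy' => exact Commute.mul_right ihy ihy'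
        | inv y _ ihy => exact Commute.inv_right ihy
      refine h.centralizer_ne_top ht1 (eq_top_iff.mpr fun g _ => ?_)
      exact mem_cs.mpr (hcm g (by rw [htop]; trivial)).symm
  set F : Set (Sylow p G) := {R | t ∈ normalizer ((R : Subgroup G) : Set G)} with hF
  set N : Set G := {u | u ∈ Cl ∧ t * u ≠ u * t} with hN
  -- the class has size divisible by `p`
  have hidx : p ∣ M.index := by
    have hd := h.dvd
    rw [← Subgroup.card_mul_index M] at hd
    exact (h.hp.dvd_mul.mp hd).resolve_left hMp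
  have hall : Cl.ncard = M.index := by
    let _ : MulAction G G := MulAction.compHom G (MulAut.conj : G →* MulAut G)
    have hst : MulAction.stabilizer G t = M := by
      ext g
      rw [MulAction.mem_stabilizer_iff, hM, mem_cs]
      exact mul_inv_eq_iff_eq_mul
    rw [← hst, MulAction.index_stabilizer]
    congr 1
    ext u
    exact isConj_iff
  -- so has the number of conjugates commuting with `t`
  have hcom : p ∣ {u : G | u ∈ Cl ∧ t * u = u * t}.ncard := by
    obtain ⟨S, hS⟩ := (isPGroup_zpowers (p := 2) (k := 1) (g := t)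
      (by rw [pow_one, ht])).exists_le_sylow
    have htS : t ∈ (S : Subgroup G) := hS (mem_zpowers t)
    obtain ⟨n, hn⟩ := IsPGroup.iff_card.mp S.isPGroup'
    have hSp : ¬ p ∣ Nat.card (S : Subgroup G) := by
      rw [hn]
      exact fun e => h.p_ne_two
        ((Nat.prime_dvd_prime_iff_eq h.hp Nat.prime_two).mp (h.hp.dvd_of_dvd_pow e))
    have hab := h.abel _ hSp
    have hSM : (S : Subgroup G) ≤ M := fun v hv => mem_cs.mpr (hab v hv t htS)
    have hMS : ∀ v ∈ M, orderOf v = 2 → v ∈ (S : Subgroup G) := by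
      intro v hv hv2
      refine mem_of_normalizes S (k := 1) (by rw [pow_one, hv2]) ?_
      rw [Subgroup.mem_set_normalizer_iff]
      intro w
      constructor
      · intro hw
        rw [SetLike.mem_coe, h.abel M hMp v hv w (hSM hw), mul_inv_cancel_right]
        exact hw
      · intro hw
        have hwM : v * w * v⁻¹ ∈ M := hSM hw
        have e := h.abel M hMp v hv _ hwM
        have : v * w * v⁻¹ = w := by
          calc v * w * v⁻¹ = v⁻¹ * (v * (v * w * v⁻¹)) := by group
            _ = v⁻¹ * (v * w * v⁻¹ * v) := by rw [e]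
            _ = w := by group
        rw [SetLike.mem_coe, ← this]; exact hw
    -- they form the orbit of `t` under `N(S)`
    let _ : MulAction G G := MulAction.compHom G (MulAut.conj : G →* MulAut G)
    set NS := normalizer ((S : Subgroup G) : Set G) with hNS
    have horb : {u : G | u ∈ Cl ∧ t * u = u * t} = MulAction.orbit NS t := by
      ext u
      constructor
      · rintro ⟨hu, hcm⟩
        obtain ⟨c, hc⟩ := isConj_iff.mp hu
        have huS := hMS u (mem_cs.mpr hcm.symm) (hClord u hu)
        obtain ⟨m, hm, hme⟩ := Transfer.exists_normalizer_conj_of_abelian S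
          ⟨⟨fun a b => Subtype.ext (hab a a.2 b b.2)⟩⟩ htS (g := c) (by rw [hc]; exact huS)
        exact ⟨⟨m, hm⟩, hme.trans hc⟩
      · rintro ⟨⟨m, hm⟩, rfl⟩
        refine ⟨isConj_iff.mpr ⟨m, rfl⟩, ?_⟩
        exact hab t htS _ ((Subgroup.mem_set_normalizer_iff.mp hm t).mp htS)
    rw [horb, ← MulAction.index_stabilizer]
    have hd : p ∣ Nat.card NS := by
      obtain ⟨g, k, hg, hgS, hgt⟩ := h.exists_moving_in (fun e => h.p_ne_two e.symm) S htS ht1
      have hk : 0 < k := by
        rcases Nat.eq_zero_or_pos k with e | e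
        · rw [e, pow_zero, orderOf_eq_one_iff] at hg
          exact absurd (by rw [hg]; simp) hgt
        · exact e
      exact (dvd_pow_self p hk.ne').trans (hg ▸ Subgroup.orderOf_dvd_natCard _ hgS)
    rw [← Subgroup.card_mul_index (MulAction.stabilizer NS t)] at hd
    refine (h.hp.dvd_mul.mp hd).resolve_left fun hd => hMp ?_
    have hle : (MulAction.stabilizer NS t).map NS.subtype ≤ M := by
      rintro _ ⟨⟨m, hm⟩, hms, rfl⟩
      exact mem_cs.mpr (mul_inv_eq_iff_eq_mul.mp hms)
    have h2 := Subgroup.card_dvd_of_le hle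
    rw [Subgroup.card_map_of_injective (Subgroup.subtype_injective _)] at h2
    exact hd.trans h2
  have hdvdN : p ∣ N.ncard := by
    have hsum : N.ncard + {u : G | u ∈ Cl ∧ t * u = u * t}.ncard = Cl.ncard := by
      rw [← Set.ncard_union_eq ?_ (Set.toFinite _) (Set.toFinite _)]
      · congr 1
        ext u
        simp only [hN, Set.mem_union, Set.mem_setOf_eq]
        tauto
      · rw [Set.disjoint_left]
        exact fun u hu hu' => hu.2 hu'.2
    rw [hall] at hsum
    exact (Nat.dvd_add_left hcom).mp (hsum ▸ hidx)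
  -- square roots in `R`
  have hsqrt : ∀ (R : Sylow p G), ∀ w ∈ (R : Subgroup G), ∃ z ∈ (R : Subgroup G), z * z = w := by
    intro R w hw
    obtain ⟨j, hj⟩ := exists_orderOf_eq R.isPGroup' hw
    obtain ⟨m, hm⟩ : Odd (p ^ j) := (h.hp.odd_of_ne_two h.p_ne_two).pow
    refine ⟨w ^ (m + 1), pow_mem hw _, ?_⟩
    rw [← pow_add, show m + 1 + (m + 1) = p ^ j + 1 by omega, pow_succ, ← hj, pow_orderOf_eq_one,
      one_mul]
  -- `N` is partitioned along `F`
  let f : (Σ R : F, {x : G // x ∈ ((R : Sylow p G) : Subgroup G) ∧ x ≠ 1}) → N := fun a =>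
    ⟨t * a.2.1, by
      refine ⟨?_, ?_⟩
      · obtain ⟨z, hzR, hzz⟩ := hsqrt a.1.1 a.2.1 a.2.2.1
        refine isConj_iff.mpr ⟨z⁻¹, ?_⟩
        have hinv := hnorm a.1.1 a.1.2 z hzR
        calc z⁻¹ * t * z⁻¹⁻¹ = (t * z * t⁻¹) * t * z := by rw [hinv, inv_inv]
          _ = t * (z * z) := by group
          _ = t * a.2.1 := by rw [hzz]
      · intro e
        rw [mul_assoc] at e
        exact ht1 (h.free a.1.1 a.2.2.1 a.2.2.2 htp (mul_left_cancel e))⟩
  have hf : Function.Bijective f := by
    refine ⟨?_, ?_⟩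
    · rintro ⟨R, x⟩ ⟨R', x'⟩ e
      have hxx : x.1 = x'.1 := mul_left_cancel (congrArg Subtype.val e)
      have hRR : R = R' := Subtype.ext (h.sylow_unique x.2.1 (hxx ▸ x'.2.1) x.2.2)
      subst hRR
      exact congrArg _ (Subtype.ext hxx)
    · rintro ⟨u, hu, hune⟩
      obtain ⟨R, htR, hz⟩ := exR u (hClord u hu) hune
      refine ⟨⟨⟨R, htR⟩, ⟨t * u, hz, fun e => hune ?_⟩⟩, Subtype.ext (show t * (t * u) = u by
        rw [← mul_assoc, ht2, one_mul])⟩
      have : u = t := by
        calc u = t * t * u := by rw [ht2, one_mul]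
          _ = t := by rw [mul_assoc, e, mul_one]
      rw [this]
  obtain ⟨R₁, hR₁, hz₁⟩ := exR u₀ (hClord u₀ hu₀) hne₀
  have hn : ∀ R : F, Nat.card {x : G // x ∈ ((R : Sylow p G) : Subgroup G) ∧ x ≠ 1} + 1
      = Nat.card R₁ := by
    intro R
    have h1 := Set.ncard_diff_singleton_add_one
      (show (1 : G) ∈ (((R : Sylow p G) : Subgroup G) : Set G) from one_mem _) (Set.toFinite _)
    rw [← Nat.card_coe_set_eq, ← Nat.card_coe_set_eq (((R : Sylow p G) : Subgroup G) : Set G)] at h1
    refine h1.trans ?_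
    exact ((R : Sylow p G).card_eq_multiplicity).trans R₁.card_eq_multiplicity.symm
  have hcard : N.ncard + F.ncard = F.ncard * Nat.card R₁ := by
    have := Fintype.ofFinite F
    rw [← Nat.card_coe_set_eq N, ← Nat.card_eq_of_bijective f hf, Nat.card_sigma,
      ← Nat.card_coe_set_eq F, Nat.card_eq_fintype_card,
      show Fintype.card F = ∑ _R : F, 1 by simp, ← Finset.sum_add_distrib, Finset.sum_mul]
    exact Finset.sum_congr rfl fun R _ => by rw [hn R, one_mul]
  have hpF : p ∣ F.ncard :=
    (Nat.dvd_add_right hdvdN).mp (hcard ▸ Dvd.dvd.mul_left (R₁.dvd_card_of_dvd_card h.dvd) _)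
  -- but `F` is an orbit of `M`
  have hmemS : ∀ (R : Sylow p G) (g y : G),
      y ∈ ((g • R : Sylow p G) : Subgroup G) ↔ g⁻¹ * y * g ∈ (R : Subgroup G) := by
    intro R g y
    rw [Sylow.coe_subgroup_smul, Subgroup.mem_pointwise_smul_iff_inv_smul_mem]
    simp [MulAut.smul_def]
  have horb : F = MulAction.orbit M R₁ := by
    ext R
    constructor
    · intro hR
      obtain ⟨g, hg⟩ := MulAction.exists_smul_eq G R₁ R
      set t' := g⁻¹ * t * g with ht'
      have hx₁ : t * u₀ ≠ 1 := fun e => hne₀ (by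
        have : u₀ = t := by
          calc u₀ = t * t * u₀ := by rw [ht2, one_mul]
            _ = t := by rw [mul_assoc, e, mul_one]
        rw [this])
      set x := t * u₀ with hxdef
      have h2 : t' * x * t'⁻¹ = x⁻¹ := by
        have h3 := hnorm R hR (g * x * g⁻¹) (by
          rw [← hg, hmemS, show g⁻¹ * (g * x * g⁻¹) * g = x by group]; exact hz₁)
        calc t' * x * t'⁻¹ = g⁻¹ * (t * (g * x * g⁻¹) * t⁻¹) * g := by rw [ht']; group
          _ = x⁻¹ := by rw [h3]; group
      have hw : t * t' ∈ (R₁ : Subgroup G) := by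
        rw [← h.cs_eq R₁ hz₁ hx₁, mem_cs]
        have e : t * t' * x * (t * t')⁻¹ = x := by
          calc t * t' * x * (t * t')⁻¹ = t * (t' * x * t'⁻¹) * t⁻¹ := by group
            _ = (t * x * t⁻¹)⁻¹ := by rw [h2]; group
            _ = x := by rw [hnorm R₁ hR₁ x hz₁, inv_inv]
        exact mul_inv_eq_iff_eq_mul.mp e
      obtain ⟨z, hzP, hzz⟩ := hsqrt R₁ _ hw
      have hzt : z⁻¹ * t * z = t' := by
        have h1 := hnorm R₁ hR₁ z hzP
        calc z⁻¹ * t * z = (t * z * t⁻¹) * t * z := by rw [h1]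
          _ = t * (z * z) := by group
          _ = t' := by rw [hzz, ← mul_assoc, ht2, one_mul]
      have hc : g * z⁻¹ ∈ M := by
        rw [hM, mem_cs]
        calc g * z⁻¹ * t = g * (z⁻¹ * t * z) * z⁻¹ := by group
          _ = t * (g * z⁻¹) := by rw [hzt, ht']; group
      refine ⟨⟨g * z⁻¹, hc⟩, ?_⟩
      show (g * z⁻¹) • R₁ = R
      rw [mul_smul, ← hg]
      congr 1
      exact Sylow.smul_eq_iff_mem_normalizer.mpr (Subgroup.le_normalizer (inv_mem hzP))
    · rintro ⟨⟨c, hc⟩, rfl⟩
      show t ∈ normalizer (((c • R₁ : Sylow p G) : Subgroup G) : Set G)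
      rw [Subgroup.mem_set_normalizer_iff]
      intro y
      rw [SetLike.mem_coe, SetLike.mem_coe, hmemS, hmemS]
      have hct : c⁻¹ * t * c = t := by
        rw [mul_assoc, ← mem_cs.mp hc, inv_mul_cancel_left]
      rw [show c⁻¹ * (t * y * t⁻¹) * c = (c⁻¹ * t * c) * (c⁻¹ * y * c) * (c⁻¹ * t * c)⁻¹ by group,
        hct]
      exact Subgroup.mem_set_normalizer_iff.mp hR₁ _
  refine hMp (hpF.trans ?_)
  rw [horb, ← MulAction.index_stabilizer]
  exact Subgroup.index_dvd_card _

end Cfsg.Agent.Grp.CyclicAbelian.Ctx
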