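import Mathlib
import Cfsg.Agent.Lib.Grp.CyclicAbelian.Count

/-!
# Groups with cyclic Sylow `p`-subgroups and abelian `p'`-subgroups
-/

namespace Cfsg.Agent.Grp.CyclicAbelian

open Subgroup

universe u

theorem dichotomy : ∀ (n : ℕ) (G : Type u) [Group G] [Finite G], Nat.card G = n →
    ∀ {p : ℕ}, p.Prime → (∀ R : Sylow p G, IsCyclic (R : Subgroup G)) →
    (∀ H : Subgroup G, ¬ p ∣ Nat.card H → ∀ a ∈ H, ∀ b ∈ H, a * b = b * a) →
    Cfsg.HasNormalPComplement p G ∨ ∃ R : Sylow p G, (R : Subgroup G).Normal := by
  intro n
  induction n using Nat.strong_induction_on with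
  | _ n ih =>
    intro G _ _ hn p hp hcyc hab
    have := Fact.mk hp
    by_contra hne
    push Not at hne
    refine (ctx_of_counterexample hp hcyc hab hne.1 hne.2 (fun H hH => ?_)
      (fun K hK _ hKp => ?_)).false_of_ctx
    · have hlt : Nat.card H < n := by rw [← hn]; exact Grp.card_lt_of_ne_top hH
      refine ih _ hlt H rfl hp (fun R => ?_) (fun L hL a ha b hb => ?_)
      · obtain ⟨S, hS⟩ := (R.isPGroup'.map H.subtype).exists_le_sylow
        let e := (R : Subgroup H).equivMapOfInjective _ (Subgroup.subtype_injective H)
        have := hcyc S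
        exact isCyclic_of_injective ((Subgroup.inclusion hS).comp e.toMonoidHom)
          ((Subgroup.inclusion_injective hS).comp e.injective)
      · exact Subtype.ext (hab (L.map H.subtype)
          (by rwa [Subgroup.card_map_of_injective (Subgroup.subtype_injective _)]) a
          (Subgroup.mem_map_of_mem _ ha) b (Subgroup.mem_map_of_mem _ hb))
    · have hlt : Nat.card (G ⧸ K) < n := by rw [← hn]; exact Grp.card_quotient_lt hK
      refine ih _ hlt (G ⧸ K) rfl hp (fun R => ?_) (fun L hL => ?_)
      · obtain ⟨S⟩ : Nonempty (Sylow p G) := inferInstance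
        set f := QuotientGroup.mk' K
        have hf := QuotientGroup.mk'_surjective K
        set T := S.mapSurjective hf with hT
        obtain ⟨g, hg⟩ := MulAction.exists_smul_eq (G ⧸ K) T R
        have := hcyc S
        have hTc : IsCyclic (T : Subgroup (G ⧸ K)) :=
          isCyclic_of_surjective (f.subgroupMap (S : Subgroup G))
            (MonoidHom.subgroupMap_surjective f _)
        rw [← hg, Sylow.coe_subgroup_smul]
        exact isCyclic_of_surjective ((MulAut.conj g).subgroupMap (T : Subgroup (G ⧸ K))).toMonoidHom
          ((MulAut.conj g).subgroupMap (T : Subgroup (G ⧸ K))).surjective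
      · set f := QuotientGroup.mk' K
        have hf := QuotientGroup.mk'_surjective K
        intro a ha b hb
        obtain ⟨a', rfl⟩ := hf a
        obtain ⟨b', rfl⟩ := hf b
        rw [← map_mul, ← map_mul]
        refine congrArg f (hab (L.comap f) ?_ a' ha b' hb)
        have hc : Nat.card (L.comap f) = Nat.card K * Nat.card L := by
          have h1 := (L.comap f).card_mul_index
          rw [Subgroup.index_comap_of_surjective _ hf] at h1
          have h2 : Nat.card K * Nat.card L * L.index = Nat.card G := by
            rw [mul_assoc, L.card_mul_index, ← Subgroup.index_eq_card, K.card_mul_index]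
          exact Nat.eq_of_mul_eq_mul_right (Nat.pos_of_ne_zero Subgroup.index_ne_zero_of_finite)
            (h1.trans h2.symm)
        rw [hc]
        exact hp.not_dvd_mul hKp hL

end Cfsg.Agent.Grp.CyclicAbelian
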